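import Cfsg.Agent.KFacts.Mult.LacedEnd
import Cfsg.Agent.KFacts.Mult.RGDW
import Cfsg.Agent.KFacts.En.Rel
import Cfsg.Agent.OddHalf.SL.OfRGD

/-!
# The simply laced Chevalley groups `D.group F` (D₄, E₆, E₇, E₈), `F` of characteristic 2, as a `Laced.Sys`

`xs h F r a : D.group F`, `X D l F r : Subgroup (D.group F)`; `sys`, `three`, `isRG`, `inj`, `dir`, `odd`: the hypotheses
of `LacedEnd.false_of_orth`.
-/

set_option autoImplicit false
set_option linter.unusedSectionVars false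

namespace Cfsg.Agent.KFacts.OddLift.ChevSys

open Cfsg.Lie Cfsg.Agent.ChevalleyStructure.CoxeterGeom Cfsg.Agent.Tits.Roots Cfsg.Agent.Tits.Core
  Cfsg.Agent.Nodes.Comb Cfsg.Agent.Nodes.BNOf Cfsg.Agent.Nodes.RGDChev Cfsg.Agent.Nodes.NormalForm
  Cfsg.Agent.KFacts.En.Roots Cfsg.Agent.KFacts.En.Rel Cfsg.Agent.KFacts.Mult.Laced
  Cfsg.Agent.KFacts.Mult.LacedEnd Cfsg.Agent.OddHalf.SL
open scoped commutatorElement

universe u

variable {D : ChevalleyDatum} {l : ℕ} {M : CoxeterMatrix (Fin l)} (h : Ty D l M) (F : Type u) [Field F]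

/-- the root elements -/
noncomputable def xs (r : Fin l → ℤ) (a : F) : ↥(D.group F) := ⟨xe h r a, xe_mem_group h r a⟩

/-- the root groups -/
def X (D : ChevalleyDatum) (l : ℕ) (F : Type u) [Field F] (r : Fin l → ℤ) : Subgroup ↥(D.group F) :=
  (XV D l F r).subgroupOf (D.group F)

include h

theorem phi_eq : Phi D l = {x | IsRoot M.toCoxeterSystem h.ty.isCartan x} := by
  ext x
  exact (isRoot_iff h.ty M.toCoxeterSystem x).symm

theorem isRG : IsRG (Phi D l) (xs h F) (X D l F) := by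
  intro r hr g
  rw [X, Subgroup.mem_subgroupOf, mem_XV h hr]
  constructor
  · rintro ⟨t, ht⟩
    exact ⟨t, Subtype.ext ht⟩
  · rintro ⟨t, rfl⟩
    exact ⟨t, rfl⟩

theorem inj {r : Fin l → ℤ} (hr : r ∈ Phi D l) {a : F} (ha : xs h F r a = 1) : a = 0 :=
  (xe_eq_one_iff h hr a).1 (congrArg Subtype.val ha)

theorem three : Three (bf D l) (Phi D l) := by
  intro r hr s hs h1
  obtain ⟨c, hc, h2, h3⟩ := tri h hr hs h1
  exact ⟨c, hc, by rw [bf_symm h]; exact h2, by rw [bf_symm h]; exact h3⟩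

theorem xs_sq [CharP F 2] (r : Fin l → ℤ) (a : F) : xs h F r a * xs h F r a = 1 :=
  Subtype.ext (xe_sq h r a)

theorem sys [CharP F 2] : Sys (bf D l) (Phi D l) (xs h F) where
  roots := roots h
  add r _ a b := Subtype.ext (xe_add h r a b).symm
  comm r hr s hs h0 a b := Subtype.ext (comm_xe h hr hs h0 a b)
  one r hr s hs h0 a b := Subtype.ext (commute_xe h hr hs h0 a b)

variable [Finite F] [CharP F 2]

theorem dir (h4 : ∀ i j, M i j ≠ 4) (h6 : ∀ i j, M i j ≠ 6) : Dir Index.hth (Phi D l) (X D l F) := by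
  have := finite_W h.ty M.toCoxeterSystem
  have : Fact (Nat.Prime 2) := ⟨Nat.prime_two⟩
  intro a ha h0
  rw [phi_eq h] at ha ⊢
  exact OfRGD.dir h4 h6 (rgd (K := F) h.ty M.toCoxeterSystem 2) a ha h0

theorem odd : ¬ 2 ∣ (Bridge.pos Index.hth (Phi D l) (X D l F)).index := by
  have := finite_W h.ty M.toCoxeterSystem
  have : Fact (Nat.Prime 2) := ⟨Nat.prime_two⟩
  have R := rgd (K := F) h.ty M.toCoxeterSystem 2
  have e : Bridge.pos Index.hth (Phi D l) (X D l F) =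
      RGD.Sup (X D l F) (RGD.Pos M.toCoxeterSystem h.ty.isCartan) := by
    rw [phi_eq h]
    exact OfRGD.pos_eq
  rw [e]
  obtain ⟨P, hP⟩ := R.isPGroup_Upos.exists_le_sylow
  have h3 := eq_U_of_isPGroup R P.isPGroup' hP (by
    rw [Cfsg.Agent.KFacts.Mult.RGDW.GG_eq_top_of_G1 (G1_eq_top h.ty M.toCoxeterSystem)]
    exact le_top)
  show ¬ 2 ∣ (RGD.Sup (fun x => (XV D l F x).subgroupOf (D.group F))
    (RGD.Pos M.toCoxeterSystem h.ty.isCartan)).index
  rw [← h3]
  exact P.not_dvd_index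

end Cfsg.Agent.KFacts.OddLift.ChevSys
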