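import Cfsg.Agent.KFacts.OddLift.Frat
import Cfsg.Agent.KFacts.OddLift.ChevSys
import Cfsg.Agent.S1082

/-!
# The 2-part of the multiplier of `Ω₈⁺(2)`: elementary abelian of order at most 4

`X = chevD4.group F`, `|F| = 2`. Let `f : K → X` be surjective with central kernel (a 2-group), `K` finite and perfect.
`kp h r s : K` is the commutator of lifts of the root elements of the orthogonal roots `r`, `s`. It depends only on the
orbit of `(r, s)` under the Weyl group (three orbits), and the product of the three values is 1 (`three_term`).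
The kernel of `f` is generated by the `kp h r s` (`ker_eq`).

* `sq_eq_one`, `card_ker_le`: `ker f` has exponent 2 and order at most 4;
* `card_le_two`: if `ker f` is cyclic then its order is at most 2.
-/

set_option autoImplicit false
set_option linter.style.haveILetI false
set_option linter.unusedSectionVars false
set_option Elab.async false

namespace Cfsg.Agent.KFacts.OddLift.OEight

open Subgroup Cfsg Cfsg.Lie Cfsg.Agent.ChevalleyStructure.CoxeterGeom Cfsg.Agent.ChevalleyStructure.RootVec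
  Cfsg.Agent.Tits.Roots Cfsg.Agent.Tits.Core
  Cfsg.Agent.Nodes.RGDChev Cfsg.Agent.KFacts.En.Roots Cfsg.Agent.KFacts.En.Rel Cfsg.Agent.KFacts.Mult.Calc
  Cfsg.Agent.KFacts.Mult.Laced Cfsg.Agent.KFacts.Mult.LacedEnd Cfsg.Agent.KFacts.MulDef Cfsg.Agent.KFacts.OddLift.ChevSys
open scoped commutatorElement

universe u v

/-! ### The table -/

/-- the reflections on the roots -/
def tab : List (List ℕ) := [[0, 1, 0, 0], [6, 0, 3, 2], [7, 2, 4, 1], [8, 3, 1, 4], [9, 5, 2, 3], [18, 4, 5, 5],
  [1, 6, 8, 7], [2, 10, 9, 6], [3, 11, 6, 9], [4, 14, 7, 8], [10, 7, 13, 10], [11, 8, 11, 12], [12, 15, 12, 11],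
  [13, 16, 10, 13], [19, 9, 16, 15], [20, 12, 17, 14], [21, 13, 14, 17], [22, 17, 15, 16], [5, 19, 18, 18],
  [14, 18, 21, 20], [15, 20, 22, 19], [16, 21, 19, 22], [17, 23, 20, 21], [23, 22, 23, 23]]

def rr (i r : ℕ) : ℕ := (tab.getD r []).getD i 0

theorem rr_eq : ∀ i < 4, ∀ r < 24, chevD4.reflectRoot i r = rr i r := by decide +kernel

/-- the distance of a pair from the three representatives -/
def dep (p : ℕ) : ℕ := (223044020488464102400894408997361186989808555402297348224475764423066339496397879530234758774755098714241508594934457034883125001770735747651403655355078531251209140647601351996878487954259887862222806561716906089213325059302472943090926752686508884429042594575901969712222576093476283288493493172780342563567041190848052377801831810925907155822009742732518035589836953813919116442798580153755911028513844770095979526393068922358373192239119359922708743012081715552724695695039202250105498120674788222537495096230530876334938795906741709985399443862949097471919551646100368328835863854907004566411350179505996798317415168597525904598566497161762054416442237186348060928341800748873416704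 / 16 ^ p) % 16

/-- the roots as vectors -/
def tv : List (List ℤ) := [[-1, -2, -1, -1], [-1, -1, -1, -1], [-1, -1, -1, 0], [-1, -1, 0, -1], [-1, -1, 0, 0],
  [-1, 0, 0, 0], [0, -1, -1, -1], [0, -1, -1, 0], [0, -1, 0, -1], [0, -1, 0, 0], [0, 0, -1, 0], [0, 0, 0, -1],
  [0, 0, 0, 1], [0, 0, 1, 0], [0, 1, 0, 0], [0, 1, 0, 1], [0, 1, 1, 0], [0, 1, 1, 1], [1, 0, 0, 0], [1, 1, 0, 0],
  [1, 1, 0, 1], [1, 1, 1, 0], [1, 1, 1, 1], [1, 2, 1, 1]]

def tc (r i : ℕ) : ℤ := (tv.getD r []).getD i 0

theorem tc_eq : ∀ r < 24, ∀ i < 4, rt chevD4 r i = tc r i := by decide +kernel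

/-- the form in coordinates -/
def tb (r s : ℕ) : ℤ :=
  2 * (tc r 0 * tc s 0 + tc r 1 * tc s 1 + tc r 2 * tc s 2 + tc r 3 * tc s 3)
    - tc r 1 * (tc s 0 + tc s 2 + tc s 3) - tc s 1 * (tc r 0 + tc r 2 + tc r 3)

theorem cartan_eq : ∀ i < 4, ∀ r < 24, chevD4.cartan i r =
    2 * tc r i - (if i = 1 then tc r 0 + tc r 2 + tc r 3 else tc r 1) := by decide +kernel

/-- every orthogonal pair is a representative or has a neighbour nearer to the representatives -/
def reachB (r s : ℕ) : Bool :=
  (r == 22 && s == 16) || (r == 17 && s == 20) || (r == 22 && s == 19) ||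
    (List.range 4).any fun i => decide (rr i r < 24) && decide (rr i s < 24) &&
      decide (tb (rr i r) (rr i s) = 0) && decide (dep (24 * rr i r + rr i s) < dep (24 * r + s))

theorem reach : ∀ r < 24, ∀ s < 24, tb r s = 0 → reachB r s = true := by decide +kernel

section Form

theorem vec4 (r : ℕ) (hr : r < 24) (i : Fin 4) : vec chevD4 4 r i = tc r i := by
  rw [vec_apply]
  exact tc_eq r hr i i.2

theorem bf_eq {r s : ℕ} (hr : r < 24) (hs : s < 24) : bf chevD4 4 (vec chevD4 4 r) (vec chevD4 4 s) = tb r s := by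
  rw [bf_vec ty_D4.ty hs]
  have e : chevD4.rank = 4 := ty_D4.ty.rank_eq
  rw [e, Finset.sum_range_succ, Finset.sum_range_succ, Finset.sum_range_succ, Finset.sum_range_succ,
    Finset.sum_range_zero, tc_eq r hr 0 (by norm_num), tc_eq r hr 1 (by norm_num), tc_eq r hr 2 (by norm_num),
    tc_eq r hr 3 (by norm_num), cartan_eq 0 (by norm_num) s hs, cartan_eq 1 (by norm_num) s hs,
    cartan_eq 2 (by norm_num) s hs, cartan_eq 3 (by norm_num) s hs]
  simp only [tb]
  norm_num
  ring

end Form

variable {F : Type v} [Field F] [Finite F] [CharP F 2]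

/-- The group. -/
abbrev X (F : Type v) [Field F] : Type v := ↥(chevD4.group F)

/-- root elements -/
noncomputable abbrev x (r : Fin 4 → ℤ) (a : F) : X F := xs ty_D4 F r a

section Gen

variable {K : Type u} [Group K] {f : K →* X F} (h : CE f)

/-- the commutator of lifts of `x r 1` and `x s 1` -/
noncomputable def kp (h : CE f) (r s : Fin 4 → ℤ) : K := h.lc (x r 1) (x s 1)

include h

theorem kp_mem {r s : Fin 4 → ℤ} (hr : r ∈ Phi chevD4 4) (hs : s ∈ Phi chevD4 4) (h0 : bf chevD4 4 r s = 0) :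
    kp h r s ∈ f.ker :=
  h.mem_center_iff_map.2 ((sys ty_D4 F).one r hr s hs h0.ge 1 1)

theorem kp_sq {r s : Fin 4 → ℤ} (hr : r ∈ Phi chevD4 4) (hs : s ∈ Phi chevD4 4) (h0 : bf chevD4 4 r s = 0) :
    kp h r s * kp h r s = 1 := by
  unfold kp
  rw [← h.lc_mul_left ((sys ty_D4 F).one r hr s hs h0.ge 1 1), xs_sq, h.lc_one_left]

/-- the Weyl group -/
theorem kp_rf {r s : Fin 4 → ℤ} (hr : r ∈ Phi chevD4 4) (hs : s ∈ Phi chevD4 4) (h0 : bf chevD4 4 r s = 0)
    (i : Fin 4) : kp h (rf chevD4 4 i r) (rf chevD4 4 i s) = kp h r s := by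
  obtain ⟨n, hn⟩ := h.surj ⟨nn ty_D4.ty F i, nn_mem_group ty_D4.ty i⟩
  have e := h.conj_lc n (x r 1) (x s 1)
  have h1 : ∀ y ∈ Phi chevD4 4, f n * x y 1 * (f n)⁻¹ = (x (rf chevD4 4 i y) 1 : X F) := by
    intro y hy
    rw [hn]
    exact Subtype.ext (xe_conj ty_D4 i hy 1)
  rw [h1 r hr, h1 s hs] at e
  have h2 := mem_center_iff.1 (h.cen (kp_mem h hr hs h0)) n
  unfold kp at h2 ⊢
  rw [← e, h2, mul_inv_cancel_right]

/-- every value is one of three -/
theorem kp_cases {r s : ℕ} (hr : r < 24) (hs : s < 24) (h0 : tb r s = 0) :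
    kp h (vec chevD4 4 r) (vec chevD4 4 s) = kp h (vec chevD4 4 22) (vec chevD4 4 16) ∨
    kp h (vec chevD4 4 r) (vec chevD4 4 s) = kp h (vec chevD4 4 17) (vec chevD4 4 20) ∨
    kp h (vec chevD4 4 r) (vec chevD4 4 s) = kp h (vec chevD4 4 22) (vec chevD4 4 19) := by
  induction hn : dep (24 * r + s) using Nat.strong_induction_on generalizing r s with
  | _ n ih =>
    subst hn
    have h1 := reach r hr s hs h0
    simp only [reachB, Bool.or_eq_true, Bool.and_eq_true, beq_iff_eq, List.any_eq_true, List.mem_range,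
      decide_eq_true_eq] at h1
    rcases h1 with ((⟨rfl, rfl⟩ | ⟨rfl, rfl⟩) | ⟨rfl, rfl⟩) | ⟨i, hi, ⟨⟨h2, h3⟩, h4⟩, h5⟩
    · exact Or.inl rfl
    · exact Or.inr (Or.inl rfl)
    · exact Or.inr (Or.inr rfl)
    · have e := ih _ h5 h2 h3 h4 rfl
      have hr' : r < chevD4.nroots := hr
      have hs' : s < chevD4.nroots := hs
      have e1 := kp_rf h (vec_mem (l := 4) hr') (vec_mem (l := 4) hs') (by rw [bf_eq hr hs]; exact h0) ⟨i, hi⟩
      rw [rf_vec ty_D4.ty ⟨i, hi⟩ hr', rf_vec ty_D4.ty ⟨i, hi⟩ hs'] at e1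
      change kp h (vec chevD4 4 (chevD4.reflectRoot i r)) (vec chevD4 4 (chevD4.reflectRoot i s)) = _ at e1
      rw [rr_eq i hi r hr, rr_eq i hi s hs] at e1
      rw [← e1]
      exact e

omit h in
theorem vadd {r s t : ℕ} (hr : r < 24) (hs : s < 24) (ht : t < 24)
    (e : ∀ i < 4, tc r i + tc s i = tc t i) : vec chevD4 4 r + vec chevD4 4 s = vec chevD4 4 t := by
  funext i
  rw [Pi.add_apply, vec4 r hr, vec4 s hs, vec4 t ht]
  exact e i i.2

/-- Hall-Witt -/
theorem move {s d u sd ud : ℕ} (hs : s < 24) (hd : d < 24) (hu : u < 24) (hsd : sd < 24) (hud : ud < 24)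
    (e1 : ∀ i < 4, tc s i + tc d i = tc sd i) (e2 : ∀ i < 4, tc u i + tc d i = tc ud i)
    (h1 : tb s d = -1) (h2 : tb u d = -1) (h3 : 0 ≤ tb u s) :
    kp h (vec chevD4 4 u) (vec chevD4 4 sd) =
      kp h (vec chevD4 4 s) (vec chevD4 4 ud) * kp h (vec chevD4 4 ud) (vec chevD4 4 sd) := by
  have m : ∀ {r : ℕ}, r < 24 → vec chevD4 4 r ∈ Phi chevD4 4 := fun hr => vec_mem hr
  have e := (sys ty_D4 F).lc_move h (m hs) (m hd) (m hu) (by rw [bf_eq hs hd]; exact h1)
    (by rw [bf_eq hu hd]; exact h2) (by rw [bf_eq hu hs]; exact h3) 1 1 1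
  rw [mul_one, vadd hs hd hsd e1, vadd hu hd hud e2] at e
  exact e

/-- **The three term relation.** -/
theorem three_term : kp h (vec chevD4 4 17) (vec chevD4 4 20) * kp h (vec chevD4 4 22) (vec chevD4 4 16) =
    kp h (vec chevD4 4 22) (vec chevD4 4 19) := by
  have e1 := move h (s := 14) (d := 18) (u := 17) (sd := 19) (ud := 22) (by norm_num) (by norm_num) (by norm_num)
    (by norm_num) (by norm_num) (by decide) (by decide) (by decide) (by decide) (by decide)
  have e2 := move h (s := 14) (d := 13) (u := 20) (sd := 16) (ud := 22) (by norm_num) (by norm_num) (by norm_num)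
    (by norm_num) (by norm_num) (by decide) (by decide) (by decide) (by decide) (by decide)
  have e3 := move h (s := 19) (d := 12) (u := 16) (sd := 20) (ud := 17) (by norm_num) (by norm_num) (by norm_num)
    (by norm_num) (by norm_num) (by decide) (by decide) (by decide) (by decide) (by decide)
  have m : ∀ {r : ℕ}, r < 24 → vec chevD4 4 r ∈ Phi chevD4 4 := fun hr => vec_mem hr
  have hb : bf chevD4 4 (vec chevD4 4 17) (vec chevD4 4 20) = 0 := by
    rw [bf_eq (by norm_num) (by norm_num)]; decide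
  have kb := kp_sq h (m (by norm_num)) (m (by norm_num)) hb
  have cb := mem_center_iff.1 (h.cen (kp_mem h (m (by norm_num)) (m (by norm_num)) hb))
  set κa := kp h (vec chevD4 4 22) (vec chevD4 4 16) with hκa
  set κb := kp h (vec chevD4 4 17) (vec chevD4 4 20) with hκb
  set κc := kp h (vec chevD4 4 22) (vec chevD4 4 19) with hκc
  have s1 : kp h (vec chevD4 4 20) (vec chevD4 4 16) = (kp h (vec chevD4 4 16) (vec chevD4 4 20))⁻¹ := h.lc_swap _ _
  have s2 : kp h (vec chevD4 4 17) (vec chevD4 4 19) = (kp h (vec chevD4 4 19) (vec chevD4 4 17))⁻¹ := h.lc_swap _ _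
  set A := kp h (vec chevD4 4 14) (vec chevD4 4 22)
  have kbi : κb⁻¹ = κb := inv_eq_of_mul_eq_one_left kb
  have e4 : A * κa = A * (κb * κc) := by
    rw [← e2, s1, e3, mul_inv_rev, kbi, ← s2, e1, ← mul_assoc, ← mul_assoc, cb A]
  have e5 : κa = κb * κc := mul_left_cancel e4
  rw [e5, ← mul_assoc, kb, one_mul]

end Gen

/-! ### The kernel -/

section Main

variable [hF2 : Fact (Nat.card F = 2)]

theorem eq_zero_or_one (a : F) : a = 0 ∨ a = 1 := by
  have h2 : Nat.card F = 2 := hF2.out
  by_contra hcon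
  push Not at hcon
  classical
  have : Fintype F := Fintype.ofFinite F
  rw [Nat.card_eq_fintype_card] at h2
  have h3 : ({0, 1, a} : Finset F).card ≤ 2 := by
    rw [← h2]; exact Finset.card_le_univ _
  rw [Finset.card_insert_of_notMem, Finset.card_insert_of_notMem, Finset.card_singleton] at h3
  · omega
  · rw [Finset.mem_singleton]; exact fun h => hcon.2 h.symm
  · rw [Finset.mem_insert, Finset.mem_singleton, not_or]
    exact ⟨zero_ne_one, fun h => hcon.1 h.symm⟩

/-- the values -/
def vals {K : Type u} [Group K] {f : K →* X F} (h : CE f) : Set K :=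
  {g | ∃ r ∈ Phi chevD4 4, ∃ s ∈ Phi chevD4 4, bf chevD4 4 r s = 0 ∧ g = kp h r s}

theorem no4 : ∀ i j, coxeterD4 i j ≠ 4 := by
  intro i j
  fin_cases i <;> fin_cases j <;> decide

theorem no6 : ∀ i j, coxeterD4 i j ≠ 6 := by
  intro i j
  fin_cases i <;> fin_cases j <;> decide

/-- **The kernel is generated by the commutators of lifts of orthogonal root elements.** -/
theorem ker_eq {K : Type u} [Group K] [Finite K] (hK : commutator K = ⊤) {f : K →* X F}
    (hf : Function.Surjective f) (hZ : f.ker ≤ center K) (h2 : IsPGroup 2 f.ker) :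
    f.ker = closure (vals (⟨hf, hZ⟩ : CE f)) := by
  set h : CE f := ⟨hf, hZ⟩
  refine Frat.ker_eq hK hf hZ h2 ((closure_le _).2 ?_) ?_
  · rintro _ ⟨r, hr, s, hs, h0, rfl⟩
    exact kp_mem h hr hs h0
  · intro L _ _ q π c hq hπ hN hd
    have h' : CE π := CE.of_ker hd.surj hd.cen fun y hy => (hd.ker y).1 hy
    have hq' : ∀ y, π (q y) = f y := fun y => by rw [← hπ]; rfl
    have two : (2 : F) = 0 := CharTwo.two_eq_zero
    refine false_of_orth (sys ty_D4 F) two (three ty_D4) ?_ OddHalf.SL.Index.hth (isRG ty_D4 F)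
      (fun r hr _ a ha => inj ty_D4 F hr ha) (dir ty_D4 F no4 no6) (odd ty_D4 F) hd h' ?_
    · -- a root at `60°`
      intro r hr
      obtain ⟨n, hn, rfl⟩ := hr
      have hn' : n < 24 := hn
      have key : ∀ r < 24, ∃ s < 24, tb s r = 1 := by
        have h1 : ∀ r < 24, ((List.range 24).any fun s => decide (tb s r = 1)) = true := by decide +kernel
        intro r hr
        have h2 := h1 r hr
        rw [List.any_eq_true] at h2
        obtain ⟨s, hs, h3⟩ := h2
        exact ⟨s, List.mem_range.1 hs, of_decide_eq_true h3⟩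
      obtain ⟨s, hs, h1⟩ := key n hn'
      exact ⟨vec chevD4 4 s, vec_mem hs, by rw [bf_eq hs hn']; exact h1⟩
    · intro r hr s hs h0 a b
      have hx0 : ∀ r ∈ Phi chevD4 4, xs ty_D4 F r 0 = 1 := fun r hr => (sys ty_D4 F).zero hr
      rcases eq_zero_or_one a with rfl | rfl
      · rw [hx0 r hr, h'.lc_one_left]
      · rcases eq_zero_or_one b with rfl | rfl
        · rw [hx0 s hs, h'.lc_one_right]
        · have h3 : q (kp h r s) = 1 := hN (subset_closure ⟨r, hr, s, hs, h0, rfl⟩)
          have h4 : q (kp h r s) = h'.lc (xs ty_D4 F r 1) (xs ty_D4 F s 1) := by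
            unfold kp CE.lc
            rw [map_commutatorElement]
            refine h'.comm_eq' ?_ ?_
            · rw [hq', h.map_lift]
            · rw [hq', h.map_lift]
          rw [← h4, h3]

theorem main {K : Type u} [Group K] [Finite K] (hK : commutator K = ⊤) {f : K →* X F}
    (hf : Function.Surjective f) (hZ : f.ker ≤ center K) (h2 : IsPGroup 2 f.ker) :
    (∀ g ∈ f.ker, g * g = 1) ∧ Nat.card f.ker ≤ 4 := by
  have e := ker_eq hK hf hZ h2
  set h : CE f := ⟨hf, hZ⟩
  have m : ∀ {r : ℕ}, r < 24 → vec chevD4 4 r ∈ Phi chevD4 4 := fun hr => vec_mem hr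
  have ha : bf chevD4 4 (vec chevD4 4 22) (vec chevD4 4 16) = 0 := by
    rw [bf_eq (by norm_num) (by norm_num)]; decide
  have hb : bf chevD4 4 (vec chevD4 4 17) (vec chevD4 4 20) = 0 := by
    rw [bf_eq (by norm_num) (by norm_num)]; decide
  have h3 := three_term h
  have cb := mem_center_iff.1 (h.cen (kp_mem h (m (by norm_num)) (m (by norm_num)) hb))
  have key := Frat.card_le_four_of_gen (kp_sq h (m (by norm_num)) (m (by norm_num)) hb)
    (kp_sq h (m (by norm_num)) (m (by norm_num)) ha) h3 ((cb _).trans h3) (S := vals h) (by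
      rintro _ ⟨_, ⟨r, hr, rfl⟩, _, ⟨s, hs, rfl⟩, h0, rfl⟩
      have hr' : r < 24 := hr
      have hs' : s < 24 := hs
      rw [bf_eq hr' hs'] at h0
      rcases kp_cases h hr' hs' h0 with h1 | h1 | h1
      · exact Or.inr (Or.inr (Or.inl h1))
      · exact Or.inr (Or.inl h1)
      · exact Or.inr (Or.inr (Or.inr h1)))
  rw [e]
  exact key

/-- **The 2-part of the multiplier of `Ω₈⁺(2)`**: exponent 2, order at most 4. -/
theorem card_le {K : Type u} [Group K] [Finite K] (hK : commutator K = ⊤) (Z : Subgroup K) [Z.Normal]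
    (hZ : Z ≤ center K) (h2 : IsPGroup 2 Z) {F : Type v} [Field F] [Fintype F] (hF : Fintype.card F = 2)
    (e : K ⧸ Z ≃* POmega F (quadFormPlus 4 F)) : (∀ z ∈ Z, z * z = 1) ∧ Nat.card Z ≤ 4 := by
  have : CharP F 2 := by
    obtain ⟨p, hp⟩ := CharP.exists F
    have hpp : p.Prime := (CharP.char_is_prime_or_zero F p).resolve_right (CharP.char_ne_zero_of_finite F p)
    have h1 : p ∣ 2 := by rw [← hF]; exact CharP.cast_eq_zero_iff F p _ |>.1 (by simp)
    rcases (Nat.dvd_prime Nat.prime_two).1 h1 with h1 | h1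
    · exact absurd h1 hpp.one_lt.ne'
    · rw [← h1]; exact hp
  have : Fact (Nat.card F = 2) := ⟨by rw [Nat.card_eq_fintype_card, hF]⟩
  obtain ⟨e'⟩ : Nonempty (↥(chevD4.group F) ≃* POmega F (quadFormPlus 4 F)) := S1082.result
  let f : K →* X F := ((e.trans e'.symm).toMonoidHom).comp (QuotientGroup.mk' Z)
  have hker : f.ker = Z := by
    ext x
    rw [MonoidHom.mem_ker]
    show (e.trans e'.symm) (QuotientGroup.mk' Z x) = 1 ↔ _
    rw [map_eq_one_iff (e.trans e'.symm) (e.trans e'.symm).injective]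
    exact QuotientGroup.eq_one_iff x
  have h := main (f := f) hK ((e.trans e'.symm).surjective.comp (QuotientGroup.mk'_surjective _))
    (by rw [hker]; exact hZ) (by rw [hker]; exact h2)
  rwa [hker] at h

/-- The cyclic case. -/
theorem card_le_two {K : Type u} [Group K] [Finite K] (hK : commutator K = ⊤) (Z : Subgroup K) [Z.Normal]
    (hZ : Z ≤ center K) (h2 : IsPGroup 2 Z) [IsCyclic Z] {F : Type v} [Field F] [Fintype F]
    (hF : Fintype.card F = 2) (e : K ⧸ Z ≃* POmega F (quadFormPlus 4 F)) : Nat.card Z ≤ 2 :=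
  Frat.card_le_two_of_cyclic fun z => Subtype.ext ((card_le hK Z hZ h2 hF e).1 z z.2)

end Main

end Cfsg.Agent.KFacts.OddLift.OEight
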