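import Mathlib
import Cfsg.Agent.SporadicRecognition.CosetCertHyp

/-!
# Odd lifts

`Cov π`: `π : L →* X` is onto with central kernel a 2-group, `L` perfect. Every `x : X` of odd order has a unique lift
of odd order (`Cov.eq_of_odd`, `Cov.exists_lift`). Letters `lt b n y` : `y = 2 i ↦ b i`, `y = 2 i + 1 ↦ (b i)⁻¹`, `y ≥ 2 n ↦ 1`.
A word `r` with `okr odd r = true` (some rotation of `r` is `u v` with `u, v` conjugates of powers of letters, or a
commutator `[u, v]` with `u` in the list `odd`) which is trivial in `X` for letters of odd order is trivial in `L` for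
the lifts of odd order (`Cov.ev_eq_one`).
-/

set_option autoImplicit false

namespace Cfsg.Agent.KFacts.OddLift.Basic

open Subgroup Cfsg.Agent.SporadicRecognition.CosetCert Cfsg.Agent.SporadicRecognition.CosetCertHyp

variable {L X : Type*} [Group L] [Group X]

/-- central extension of `X` by a 2-group, perfect -/
structure Cov (π : L →* X) : Prop where
  surj : Function.Surjective π
  central : π.ker ≤ center L
  two : IsPGroup 2 π.ker
  perfect : commutator L = ⊤

/-- inverse letter -/
def iv (y : ℕ) : ℕ := if y % 2 = 0 then y + 1 else y - 1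

/-- value of a letter -/
def lt {G : Type*} [Group G] (b : ℕ → G) (n y : ℕ) : G :=
  if y < 2 * n then (if y % 2 = 0 then b (y / 2) else (b (y / 2))⁻¹) else 1

section Letters

variable {G G' : Type*} [Group G] [Group G'] (b : ℕ → G) (n : ℕ)

theorem iv_even {y : ℕ} (h : y % 2 = 0) : iv y = y + 1 := if_pos h

theorem iv_odd {y : ℕ} (h : y % 2 = 1) : iv y = y - 1 := if_neg (by omega)

theorem lt_even {y : ℕ} (h : y < 2 * n) (h2 : y % 2 = 0) : lt b n y = b (y / 2) := by
  unfold lt; rw [if_pos h, if_pos h2]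

theorem lt_odd {y : ℕ} (h : y < 2 * n) (h2 : y % 2 = 1) : lt b n y = (b (y / 2))⁻¹ := by
  unfold lt; rw [if_pos h, if_neg (by omega)]

theorem lt_ge {y : ℕ} (h : 2 * n ≤ y) : lt b n y = 1 := if_neg (by omega)

theorem lt_mul_iv (y : ℕ) : lt b n y * lt b n (iv y) = 1 := by
  by_cases h : y < 2 * n
  · rcases Nat.mod_two_eq_zero_or_one y with h2 | h2
    · have h3 : (y + 1) / 2 = y / 2 := by omega
      rw [iv_even h2, lt_even b n h h2, lt_odd b n (by omega) (by omega), h3, mul_inv_cancel]
    · have h3 : (y - 1) / 2 = y / 2 := by omega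
      rw [iv_odd h2, lt_odd b n h h2, lt_even b n (by omega) (by omega), h3, inv_mul_cancel]
  · rcases Nat.mod_two_eq_zero_or_one y with h2 | h2
    · rw [iv_even h2, lt_ge b n (by omega), lt_ge b n (by omega), mul_one]
    · rw [iv_odd h2, lt_ge b n (by omega), lt_ge b n (by omega), mul_one]

theorem lt_iv (y : ℕ) : lt b n (iv y) = (lt b n y)⁻¹ := (inv_eq_of_mul_eq_one_right (lt_mul_iv b n y)).symm

theorem iv_lt {y : ℕ} (h : y < 2 * n) : iv y < 2 * n := by
  unfold iv
  split <;> omega

theorem lt_hinv : ∀ y, y < 2 * n → iv y < 2 * n ∧ lt b n y * lt b n (iv y) = 1 :=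
  fun y hy => ⟨iv_lt n hy, lt_mul_iv b n y⟩

theorem lt_top : lt b n (2 * n) = 1 := by
  unfold lt
  rw [if_neg (lt_irrefl _)]

theorem map_lt (f : G →* G') (y : ℕ) : f (lt b n y) = lt (fun i => f (b i)) n y := by
  unfold lt
  split
  · split
    · rfl
    · rw [map_inv]
  · rw [map_one]

theorem map_ev (f : G →* G') (g : ℕ → G) (w : List ℕ) : f (ev g w) = ev (fun y => f (g y)) w := by
  induction w with
  | nil => rw [ev_nil, ev_nil, map_one]
  | cons x w ih => rw [ev_cons, ev_cons, map_mul, ih]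

theorem map_ev_lt (f : G →* G') (w : List ℕ) : f (ev (lt b n) w) = ev (lt (fun i => f (b i)) n) w := by
  rw [map_ev]
  congr 1
  funext y
  exact map_lt b n f y

theorem odd_lt {b : ℕ → G} (hb : ∀ i, Odd (orderOf (b i))) (y : ℕ) : Odd (orderOf (lt b n y)) := by
  unfold lt
  split
  · split
    · exact hb _
    · rw [orderOf_inv]; exact hb _
  · rw [orderOf_one]; exact odd_one

theorem lt_mem {y : ℕ} : lt b n y ∈ closure {x | ∃ i < n, b i = x} := by
  unfold lt
  split
  · rename_i h
    split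
    · exact subset_closure ⟨y / 2, by omega, rfl⟩
    · exact inv_mem (subset_closure ⟨y / 2, by omega, rfl⟩)
  · exact one_mem _

theorem closure_lt : closure {x | ∃ y < 2 * n, lt b n y = x} = closure {x | ∃ i < n, b i = x} := by
  apply le_antisymm
  · rw [closure_le]
    rintro _ ⟨y, _, rfl⟩
    exact lt_mem b n
  · rw [closure_le]
    rintro _ ⟨i, hi, rfl⟩
    refine subset_closure ⟨2 * i, by omega, ?_⟩
    unfold lt
    rw [if_pos (by omega), if_pos (by omega)]
    congr 1
    omega

end Letters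

/-! ### The relator test -/

/-- all letters equal -/
def allEq : List ℕ → Bool
  | [] => true
  | a :: u => u.all fun y => Nat.beq y a

/-- the word is a conjugate of a power of a letter -/
def pal : ℕ → List ℕ → Bool
  | 0, u => allEq u
  | _ + 1, [] => true
  | f + 1, a :: v => allEq (a :: v) || ((v.getLast? == some (iv a)) && pal f v.dropLast)

/-- a product of two conjugates of powers of letters -/
def okConj (r : List ℕ) : Bool :=
  (List.range (r.length + 1)).any fun e => pal r.length (r.take e) && pal r.length (r.drop e)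

/-- `[u, v]` with `u` in the list `odd` -/
def okComm (odd : List (List ℕ)) (r : List ℕ) : Bool :=
  odd.any fun u => (List.range (r.length + 1)).any fun l =>
    r == u ++ (r.drop u.length).take l ++ (invw iv u ++ invw iv ((r.drop u.length).take l))

/-- the relator test -/
def okr (odd : List (List ℕ)) (r : List ℕ) : Bool :=
  (List.range (r.length + 1)).any fun s => okConj (r.rotate s) || okComm odd (r.rotate s)

theorem odd_pow {G : Type*} [Group G] {x : G} (hx : Odd (orderOf x)) (k : ℕ) : Odd (orderOf (x ^ k)) :=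
  Odd.of_dvd_nat hx (orderOf_pow_dvd k)

theorem odd_conj {G : Type*} [Group G] {x : G} (hx : Odd (orderOf x)) (g : G) :
    Odd (orderOf (g * x * g⁻¹)) := by
  have : g * x * g⁻¹ = MulAut.conj g x := rfl
  rw [this, MulEquiv.orderOf_eq]
  exact hx

theorem odd_ev_allEq {G : Type*} [Group G] {g : ℕ → G} (hg : ∀ y, Odd (orderOf (g y))) {u : List ℕ}
    (h : allEq u = true) : Odd (orderOf (ev g u)) := by
  cases u with
  | nil => rw [ev_nil, orderOf_one]; exact odd_one
  | cons a u =>
    unfold allEq at h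
    rw [List.all_eq_true] at h
    have h1 : u = List.replicate u.length a := List.eq_replicate_iff.2 ⟨rfl, fun y hy => Nat.eq_of_beq_eq_true (h y hy)⟩
    have h2 : ev g (a :: u) = g a ^ (u.length + 1) := by
      rw [ev_cons]
      nth_rewrite 1 [h1]
      unfold ev
      rw [List.map_replicate, List.prod_replicate, pow_succ']
    rw [h2]
    exact odd_pow (hg a) _

theorem odd_ev_pal {G : Type*} [Group G] {g : ℕ → G} (hg : ∀ y, Odd (orderOf (g y)))
    (hi : ∀ y, g (iv y) = (g y)⁻¹) {f : ℕ} {u : List ℕ} (h : pal f u = true) : Odd (orderOf (ev g u)) := by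
  induction f generalizing u with
  | zero => exact odd_ev_allEq hg h
  | succ f ih =>
    cases u with
    | nil => rw [ev_nil, orderOf_one]; exact odd_one
    | cons a v =>
      unfold pal at h
      rw [Bool.or_eq_true, Bool.and_eq_true] at h
      rcases h with h | ⟨h1, h2⟩
      · exact odd_ev_allEq hg h
      · have h3 : v.getLast? = some (iv a) := by simpa using h1
        obtain ⟨w, rfl⟩ := List.getLast?_eq_some_iff.1 h3
        rw [List.dropLast_concat] at h2
        rw [ev_cons, ev_append, ev_cons, ev_nil, mul_one, hi, ← mul_assoc]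
        exact odd_conj (ih h2) _

theorem ev_rotate_iff {G : Type*} [Group G] (g : ℕ → G) (r : List ℕ) (s : ℕ) :
    ev g (r.rotate s) = 1 ↔ ev g r = 1 := by
  have h1 : ev g r = ev g (r.take (s % r.length)) * ev g (r.drop (s % r.length)) := by
    rw [← ev_append, List.take_append_drop]
  rw [List.rotate_eq_drop_append_take_mod, ev_append, h1]
  exact mul_eq_one_comm

theorem ev_invw_iv {G : Type*} [Group G] (b : ℕ → G) (n : ℕ) (w : List ℕ) :
    ev (lt b n) (invw iv w) = (ev (lt b n) w)⁻¹ := by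
  induction w with
  | nil => simp [invw, ev_nil]
  | cons x w ih =>
    have h3 : invw iv (x :: w) = invw iv w ++ [iv x] := by simp [invw]
    rw [h3, ev_append, ih, ev_cons, ev_cons, ev_nil, mul_one, lt_iv, mul_inv_rev]

namespace Cov

variable {π : L →* X}

theorem eq_of_odd (h : Cov π) {a b : L} (ha : Odd (orderOf a)) (hb : Odd (orderOf b)) (hab : π a = π b) :
    a = b := by
  have hz : a⁻¹ * b ∈ π.ker := by rw [MonoidHom.mem_ker, map_mul, map_inv, hab, inv_mul_cancel]
  have hc : Commute a (a⁻¹ * b) := (mem_center_iff.1 (h.central hz) a)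
  have hb' : b = a * (a⁻¹ * b) := by group
  set z := a⁻¹ * b with hzdef
  have hzo : Odd (orderOf z) := by
    have h1 : z ^ (orderOf a * orderOf b) = 1 := by
      have h2 : z = a⁻¹ * b := hzdef
      have hcab : Commute a⁻¹ b := by
        have : Commute a b := by rw [hb']; exact (Commute.refl a).mul_right hc
        exact this.inv_left
      rw [h2, hcab.mul_pow, inv_pow, pow_mul, pow_orderOf_eq_one, one_pow, inv_one, one_mul, mul_comm, pow_mul,
        pow_orderOf_eq_one, one_pow]
    exact Odd.of_dvd_nat (ha.mul hb) (orderOf_dvd_of_pow_eq_one h1)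
  have hz1 : z = 1 := by
    obtain ⟨k, hk⟩ := h.two ⟨z, hz⟩
    have hk' : z ^ 2 ^ k = 1 := congrArg Subtype.val hk
    have h1 : orderOf z ∣ 2 ^ k := orderOf_dvd_of_pow_eq_one hk'
    obtain ⟨j, _, hj⟩ := (Nat.dvd_prime_pow Nat.prime_two).1 h1
    rw [hj] at hzo
    cases j with
    | zero => rwa [pow_zero, orderOf_eq_one_iff] at hj
    | succ j =>
      exfalso
      rw [pow_succ, Nat.odd_mul] at hzo
      exact absurd hzo.2 (by decide)
  rw [hb', hz1, mul_one]

/-- the lift of odd order -/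
theorem exists_lift (h : Cov π) {x : X} (hx : Odd (orderOf x)) : ∃ a : L, π a = x ∧ Odd (orderOf a) := by
  obtain ⟨y, rfl⟩ := h.surj x
  set m := orderOf (π y) with hm
  have h1 : y ^ m ∈ π.ker := by rw [MonoidHom.mem_ker, map_pow, hm, pow_orderOf_eq_one]
  obtain ⟨k, hk⟩ := h.two ⟨y ^ m, h1⟩
  have hk' : (y ^ m) ^ 2 ^ k = 1 := congrArg Subtype.val hk
  have hm0 : 0 < m := hx.pos
  have hcop : Nat.Coprime (2 ^ k) m := Nat.Coprime.pow_left k (Nat.coprime_two_left.2 hx)
  have he : (2 ^ k) ^ Nat.totient m ≡ 1 [MOD m] := Nat.ModEq.pow_totient hcop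
  refine ⟨y ^ (2 ^ k) ^ Nat.totient m, ?_, ?_⟩
  · rw [map_pow]
    have h2 : π y ^ (2 ^ k) ^ Nat.totient m = π y ^ 1 := pow_eq_pow_iff_modEq.2 he
    rw [h2, pow_one]
  · have h2 : (y ^ (2 ^ k) ^ Nat.totient m) ^ m = 1 := by
      obtain ⟨j, hj⟩ : 2 ^ k ∣ (2 ^ k) ^ Nat.totient m := dvd_pow_self _ (Nat.totient_pos.2 hm0).ne'
      rw [← pow_mul, mul_comm, pow_mul, hj, pow_mul, hk', one_pow]
    exact Odd.of_dvd_nat hx (orderOf_dvd_of_pow_eq_one h2)

/-- odd lifts of a family of letters -/
theorem exists_lifts (h : Cov π) {b : ℕ → X} (hb : ∀ i, Odd (orderOf (b i))) :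
    ∃ B : ℕ → L, (∀ i, π (B i) = b i) ∧ ∀ i, Odd (orderOf (B i)) := by
  choose B hB using fun i => h.exists_lift (hb i)
  exact ⟨B, fun i => (hB i).1, fun i => (hB i).2⟩

theorem closure_eq_top (h : Cov π) {b : ℕ → X} {B : ℕ → L} (hB : ∀ i, π (B i) = b i) {n : ℕ}
    (hgen : closure {x | ∃ i < n, b i = x} = ⊤) : closure {x | ∃ i < n, B i = x} = ⊤ := by
  set M := closure {x | ∃ i < n, B i = x} with hM
  have h1 : M.map π = ⊤ := by
    rw [hM, MonoidHom.map_closure, ← hgen]
    congr 1
    ext x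
    constructor
    · rintro ⟨_, ⟨i, hi, rfl⟩, rfl⟩
      exact ⟨i, hi, (hB i).symm⟩
    · rintro ⟨i, hi, rfl⟩
      exact ⟨B i, ⟨i, hi, rfl⟩, hB i⟩
  have h2 : ∀ x : L, ∃ a ∈ M, ∃ z ∈ π.ker, x = a * z := by
    intro x
    have hx : π x ∈ M.map π := by rw [h1]; trivial
    obtain ⟨a, ha, hax⟩ := hx
    exact ⟨a, ha, a⁻¹ * x, by rw [MonoidHom.mem_ker, map_mul, map_inv, hax, inv_mul_cancel], by group⟩
  rw [eq_top_iff, ← h.perfect, commutator_eq_closure, closure_le]
  rintro _ ⟨x, y, rfl⟩
  obtain ⟨a, ha, z, hz, rfl⟩ := h2 x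
  obtain ⟨c, hc, w, hw, rfl⟩ := h2 y
  have hz' : ∀ g, g * z = z * g := fun g => mem_center_iff.1 (h.central hz) g
  have hw' : ∀ g, g * w = w * g := fun g => mem_center_iff.1 (h.central hw) g
  have e1 : a * z * (c * w) = a * c * (z * w) := by
    rw [mul_assoc a z, ← mul_assoc z c, ← hz' c]; simp only [mul_assoc]
  have e2 : c * w * (a * z) = c * a * (z * w) := by
    rw [mul_assoc c w, ← mul_assoc w a, ← hw' a, mul_assoc a w, hz' w]; simp only [mul_assoc]
  have e3 : a * z * (c * w) * (a * z)⁻¹ * (c * w)⁻¹ = a * c * a⁻¹ * c⁻¹ := by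
    rw [mul_assoc (a * z * (c * w)), ← mul_inv_rev, e1, e2]
    group
  have e4 : a * c * a⁻¹ * c⁻¹ ∈ M := mul_mem (mul_mem (mul_mem ha hc) (inv_mem ha)) (inv_mem hc)
  rw [← e3] at e4
  exact e4

/-- **Relators hold exactly for the odd lifts.** -/
theorem ev_eq_one (h : Cov π) {b : ℕ → X} {B : ℕ → L} (hB : ∀ i, π (B i) = b i)
    (hBo : ∀ i, Odd (orderOf (B i))) {n : ℕ} {odd : List (List ℕ)}
    (hodd : ∀ u ∈ odd, Odd (orderOf (ev (lt b n) u))) {r : List ℕ} (hr : okr odd r = true)
    (h1 : ev (lt b n) r = 1) : ev (lt B n) r = 1 := by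
  have hmap : ∀ w, π (ev (lt B n) w) = ev (lt b n) w := by
    intro w
    rw [map_ev_lt]
    congr 2
    funext i
    exact hB i
  have hgo := odd_lt (n := n) hBo
  have hgi := lt_iv B n
  unfold okr at hr
  rw [List.any_eq_true] at hr
  obtain ⟨s, _, hs⟩ := hr
  have h1' : ev (lt b n) (r.rotate s) = 1 := (ev_rotate_iff _ r s).2 h1
  rw [← ev_rotate_iff _ r s]
  generalize r.rotate s = q at hs h1' ⊢
  rw [Bool.or_eq_true] at hs
  rcases hs with hs | hs
  · unfold okConj at hs
    rw [List.any_eq_true] at hs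
    obtain ⟨e, _, he⟩ := hs
    rw [Bool.and_eq_true] at he
    have h2 := odd_ev_pal hgo hgi he.1
    have h3 := odd_ev_pal hgo hgi he.2
    rw [← List.take_append_drop e q, ev_append] at h1' ⊢
    rw [mul_eq_one_iff_eq_inv] at h1' ⊢
    refine h.eq_of_odd h2 (by rwa [orderOf_inv]) ?_
    rw [map_inv, hmap, hmap, h1']
  · unfold okComm at hs
    rw [List.any_eq_true] at hs
    obtain ⟨u, hu, hq⟩ := hs
    rw [List.any_eq_true] at hq
    obtain ⟨l, _, hq⟩ := hq
    have hq0 : q = u ++ (q.drop u.length).take l ++ (invw iv u ++ invw iv ((q.drop u.length).take l)) := by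
      simpa using hq
    generalize (q.drop u.length).take l = v at hq0
    rw [hq0, ev_append, ev_append, ev_append, ev_invw_iv, ev_invw_iv] at h1' ⊢
    obtain ⟨a, ha, hao⟩ := h.exists_lift (hodd u hu)
    set U := ev (lt B n) u with hU
    set V := ev (lt B n) v with hV
    have hz : a⁻¹ * U ∈ π.ker := by
      rw [MonoidHom.mem_ker, map_mul, map_inv, ha, hmap, inv_mul_cancel]
    have hz' : ∀ g, g * (a⁻¹ * U) = a⁻¹ * U * g := fun g => mem_center_iff.1 (h.central hz) g
    have h4 : V * a * V⁻¹ = a := by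
      refine h.eq_of_odd (odd_conj hao V) hao ?_
      rw [map_mul, map_mul, map_inv, ha, hmap]
      have h5 : ev (lt b n) u * ev (lt b n) v = ev (lt b n) v * ev (lt b n) u := by
        have h6 := mul_eq_one_iff_eq_inv.1 h1'
        rw [mul_inv_rev, inv_inv, inv_inv] at h6
        exact h6
      rw [← h5, mul_inv_cancel_right]
    have h5 : V * a = a * V := by
      rw [← mul_inv_eq_iff_eq_mul]; exact h4
    have h6 : V * U = U * V := by
      have e1 : U = a * (a⁻¹ * U) := by group
      rw [e1, ← mul_assoc, h5, mul_assoc, hz' V, ← mul_assoc]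
    rw [mul_eq_one_iff_eq_inv, mul_inv_rev, inv_inv, inv_inv, h6]

end Cov

end Cfsg.Agent.KFacts.OddLift.Basic
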