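import Cfsg.Agent.KFacts.MulDef

/-!
# Central 2-extensions and double covers below them

Let `f : K → X` be surjective, `K` finite and perfect, `ker f` central.

* `exists_dbl`: if `ker f` has even order, there is a perfect double cover `π : L → X` and a surjection `K → L` over `X`.
* `exists_dbl_over`: if `ker f` is a 2-group and `N < ker f`, the surjection can be chosen with `N` in its kernel.
* `ker_eq`: if no perfect double cover below `f` kills `N`, then `ker f = N`.
* `card_ker_le_two`: if the lifts of two commuting elements `x` (of square 1) and `y` do not commute in any perfect double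
  cover, then `|ker f| ≤ 2`.
* `card_le_four_of_gen`, `card_le_two_of_cyclic`: counting.
-/

set_option autoImplicit false
set_option linter.style.haveILetI false

namespace Cfsg.Agent.KFacts.OddLift.Frat

open Subgroup Cfsg.Agent.KFacts.MulTwo Cfsg.Agent.KFacts.MulDef
open scoped commutatorElement

universe u v

/-- A double cover below a central extension with kernel of even order. -/
theorem exists_dbl {X : Type v} [Group X] {K : Type u} [Group K] [Finite K]
    (hK : commutator K = ⊤) {f : K →* X} (hf : Function.Surjective f) (hZ : f.ker ≤ center K)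
    (heven : 2 ∣ Nat.card f.ker) :
    ∃ (L : Type u) (_ : Group L) (_ : Finite L) (q : K →* L) (π : L →* X) (c : L),
      Function.Surjective q ∧ π.comp q = f ∧ Dbl π c := by
  classical
  obtain ⟨Z₀, hle, hcard⟩ := exists_index_two hZ heven
  have hcomm : ∀ a ∈ f.ker, ∀ b : K, b * a = a * b := fun a ha b => mem_center_iff.1 (hZ ha) b
  have hn : Z₀.Normal := ⟨fun n hn g => by
    rw [hcomm n (hle hn) g, mul_inv_cancel_right]; exact hn⟩
  let q := QuotientGroup.mk' Z₀
  have hq : Function.Surjective q := QuotientGroup.mk'_surjective _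
  let π : K ⧸ Z₀ →* X := QuotientGroup.lift Z₀ f hle
  have hπ : ∀ x, π (q x) = f x := fun _ => rfl
  have hlt : ∃ c ∈ f.ker, c ∉ Z₀ := by
    by_contra hcon
    push Not at hcon
    have : f.ker = Z₀ := le_antisymm hcon hle
    rw [this] at hcard
    have := Nat.card_pos (α := Z₀)
    omega
  obtain ⟨c, hc, hc0⟩ := hlt
  have hq1 : ∀ x, q x = 1 ↔ x ∈ Z₀ := fun x => QuotientGroup.eq_one_iff x
  have htwo : ∀ x ∈ f.ker, x ∈ Z₀ ∨ c⁻¹ * x ∈ Z₀ := by
    have hidx : (Z₀.subgroupOf f.ker).index = 2 := by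
      have h1 := (Z₀.subgroupOf f.ker).card_mul_index
      rw [Nat.card_congr (subgroupOfEquivOfLe hle).toEquiv, hcard, mul_comm] at h1
      exact Nat.eq_of_mul_eq_mul_right Nat.card_pos h1
    intro x hx
    by_contra hcon
    push Not at hcon
    have h1 := (Subgroup.mul_mem_iff_of_index_two hidx (a := (⟨c, hc⟩ : f.ker)⁻¹) (b := ⟨x, hx⟩))
    simp only [mem_subgroupOf, coe_mul, coe_inv, inv_mem_iff] at h1
    exact hcon.2 (h1.2 ⟨fun h => absurd h hc0, fun h => absurd h hcon.1⟩)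
  refine ⟨K ⧸ Z₀, inferInstance, inferInstance, q, π, q c, hq, MonoidHom.ext hπ, ⟨⟨?_, ?_, ?_, ?_⟩, ?_, ?_⟩⟩
  · exact fun h1 => hc0 ((hq1 c).1 h1)
  · rw [← map_mul, hq1]
    rcases htwo (c * c) (mul_mem hc hc) with h1 | h1
    · exact h1
    · rw [inv_mul_cancel_left] at h1
      exact absurd h1 hc0
  · intro x
    obtain ⟨x, rfl⟩ := hq x
    rw [← map_mul, ← map_mul, hcomm c hc x]
  · exact commutator_top_of_surj q hq hK
  · exact fun y => (hf y).imp' q fun x hx => hx
  · intro x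
    obtain ⟨x, rfl⟩ := hq x
    rw [hπ]
    constructor
    · intro hx
      rcases htwo x hx with h1 | h1
      · left; exact (hq1 x).2 h1
      · right
        have := (hq1 _).2 h1
        rw [map_mul, map_inv] at this
        exact (inv_mul_eq_one.1 this).symm
    · rintro (h1 | h1)
      · exact hle ((hq1 x).1 h1)
      · have h2 : q (c⁻¹ * x) = 1 := by rw [map_mul, map_inv, h1, inv_mul_cancel]
        have h3 := hle ((hq1 _).1 h2)
        have := mul_mem hc h3
        rwa [mul_inv_cancel_left] at this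

/-- A double cover below a central 2-extension on which the proper subgroup `N` of the kernel is trivial. -/
theorem exists_dbl_over {X : Type v} [Group X] {K : Type u} [Group K] [Finite K]
    (hK : commutator K = ⊤) {f : K →* X} (hf : Function.Surjective f) (hZ : f.ker ≤ center K)
    (h2 : IsPGroup 2 f.ker) {N : Subgroup K} (hN : N ≤ f.ker) (hne : N ≠ f.ker) :
    ∃ (L : Type u) (_ : Group L) (_ : Finite L) (q : K →* L) (π : L →* X) (c : L),
      Function.Surjective q ∧ π.comp q = f ∧ N ≤ q.ker ∧ Dbl π c := by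
  have hcomm : ∀ a ∈ f.ker, ∀ b : K, b * a = a * b := fun a ha b => mem_center_iff.1 (hZ ha) b
  have hn : N.Normal := ⟨fun n hn g => by
    rw [hcomm n (hN hn) g, mul_inv_cancel_right]; exact hn⟩
  let p := QuotientGroup.mk' N
  have hp : Function.Surjective p := QuotientGroup.mk'_surjective _
  let g : K ⧸ N →* X := QuotientGroup.lift N f hN
  have hg : ∀ x, g (p x) = f x := fun _ => rfl
  have hp1 : ∀ x, p x = 1 ↔ x ∈ N := fun x => QuotientGroup.eq_one_iff x
  have hgs : Function.Surjective g := fun y => (hf y).imp' p fun x hx => hx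
  have hgZ : g.ker ≤ center (K ⧸ N) := by
    intro y hy
    obtain ⟨x, rfl⟩ := hp y
    rw [mem_center_iff]
    intro w
    obtain ⟨w, rfl⟩ := hp w
    rw [← map_mul, ← map_mul, hcomm x hy w]
  have hpg : IsPGroup 2 g.ker := by
    rintro ⟨y, hy⟩
    obtain ⟨x, rfl⟩ := hp y
    obtain ⟨k, hk⟩ := h2 ⟨x, hy⟩
    refine ⟨k, Subtype.ext ?_⟩
    have := congrArg Subtype.val hk
    simp only [coe_pow, coe_one] at this ⊢
    rw [← map_pow, this, map_one]
  obtain ⟨x, hx, hxN⟩ : ∃ x ∈ f.ker, x ∉ N := by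
    by_contra hcon
    push Not at hcon
    exact hne (le_antisymm hN hcon)
  have heven : 2 ∣ Nat.card g.ker := by
    obtain ⟨k, hk⟩ := IsPGroup.iff_card.1 hpg
    rw [hk]
    rcases Nat.eq_zero_or_pos k with rfl | hk0
    · exfalso
      rw [pow_zero, card_eq_one] at hk
      have h1 : p x ∈ g.ker := hx
      rw [hk, mem_bot, hp1] at h1
      exact hxN h1
    · exact dvd_pow_self 2 hk0.ne'
  obtain ⟨L, iL, fL, q, π, c, hq, hπ, hd⟩ := exists_dbl (commutator_top_of_surj p hp hK) hgs hgZ heven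
  refine ⟨L, iL, fL, q.comp p, π, c, hq.comp hp, ?_, ?_, hd⟩
  · rw [← MonoidHom.comp_assoc, hπ]
    exact MonoidHom.ext hg
  · intro n hn
    rw [MonoidHom.mem_ker, MonoidHom.comp_apply, (hp1 n).2 hn, map_one]

/-- If no perfect double cover below `f` kills `N ≤ ker f`, then `ker f = N`. -/
theorem ker_eq {X : Type v} [Group X] {K : Type u} [Group K] [Finite K]
    (hK : commutator K = ⊤) {f : K →* X} (hf : Function.Surjective f) (hZ : f.ker ≤ center K)
    (h2 : IsPGroup 2 f.ker) {N : Subgroup K} (hN : N ≤ f.ker)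
    (h : ∀ (L : Type u) [Group L] [Finite L] (q : K →* L) (π : L →* X) (c : L), Function.Surjective q →
      π.comp q = f → N ≤ q.ker → Dbl π c → False) : f.ker = N := by
  by_contra hne
  obtain ⟨L, iL, fL, q, π, c, hq, hπ, hNq, hd⟩ := exists_dbl_over hK hf hZ h2 hN fun h1 => hne h1.symm
  exact h L q π c hq hπ hNq hd

/-- If the lifts of two commuting elements `x` and `y`, `x² = 1`, do not commute in any perfect double cover, then
`|ker f| ≤ 2`. -/
theorem card_ker_le_two {X : Type v} [Group X] {K : Type u} [Group K] [Finite K]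
    (hK : commutator K = ⊤) {f : K →* X} (hf : Function.Surjective f) (hZ : f.ker ≤ center K)
    (h2 : IsPGroup 2 f.ker) {x y : X} (hx : x * x = 1) (hxy : x * y = y * x)
    (h : ∀ (L : Type u) [Group L] [Finite L] (π : L →* X) (c : L), Dbl π c → ∀ x' y' : L, π x' = x → π y' = y →
      x' * y' ≠ y' * x') : Nat.card f.ker ≤ 2 := by
  obtain ⟨x', hx'⟩ := hf x
  obtain ⟨y', hy'⟩ := hf y
  have hd : ⁅x', y'⁆ ∈ f.ker := by
    rw [MonoidHom.mem_ker, map_commutatorElement, hx', hy', commutatorElement_eq_one_iff_mul_comm]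
    exact hxy
  have hcen : ∀ a ∈ f.ker, ∀ b : K, a * b = b * a := fun a ha b => (mem_center_iff.1 (hZ ha) b).symm
  have hsq : ⁅x', y'⁆ * ⁅x', y'⁆ = 1 :=
    noFour (hcen (x' * x') (by rw [MonoidHom.mem_ker, map_mul, hx', hx])) (hcen _ hd)
  have hker : f.ker = zpowers ⁅x', y'⁆ := by
    refine ker_eq hK hf hZ h2 ((zpowers_le).2 hd) ?_
    intro L _ _ q π c hq hπ hN hd'
    refine h L π c hd' (q x') (q y') ?_ ?_ ?_
    · rw [← MonoidHom.comp_apply, hπ, hx']
    · rw [← MonoidHom.comp_apply, hπ, hy']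
    · have h1 : q ⁅x', y'⁆ = 1 := hN (mem_zpowers _)
      rw [map_commutatorElement, commutatorElement_eq_one_iff_mul_comm] at h1
      exact h1
  rw [hker, Nat.card_zpowers]
  exact orderOf_le_of_pow_eq_one (by norm_num) (by rw [pow_two, hsq])

/-- The four group `{1, k₁, k₂, k₃}`. -/
def klein {K : Type u} [Group K] {k₁ k₂ k₃ : K} (h1 : k₁ * k₁ = 1) (h2 : k₂ * k₂ = 1)
    (h12 : k₁ * k₂ = k₃) (h21 : k₂ * k₁ = k₃) : Subgroup K where
  carrier := {g | g = 1 ∨ g = k₁ ∨ g = k₂ ∨ g = k₃}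
  one_mem' := Or.inl rfl
  mul_mem' := by
    have e1 : k₁ * k₃ = k₂ := by rw [← h12, ← mul_assoc, h1, one_mul]
    have e2 : k₂ * k₃ = k₁ := by rw [← h21, ← mul_assoc, h2, one_mul]
    have e3 : k₃ * k₁ = k₂ := by rw [← h21, mul_assoc, h1, mul_one]
    have e4 : k₃ * k₂ = k₁ := by rw [← h12, mul_assoc, h2, mul_one]
    have e5 : k₃ * k₃ = 1 := by
      calc k₃ * k₃ = k₃ * (k₁ * k₂) := by rw [h12]
        _ = (k₃ * k₁) * k₂ := by rw [mul_assoc]
        _ = 1 := by rw [e3, h2]
    rintro a b (rfl | rfl | rfl | rfl) (rfl | rfl | rfl | rfl) <;>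
      simp only [Set.mem_ofPred_eq, one_mul, mul_one, h1, h2, h12, h21, e1, e2, e3, e4, e5, true_or, or_true]
  inv_mem' := by
    have e5 : k₃ * k₃ = 1 := by
      calc k₃ * k₃ = (k₁ * k₂) * (k₂ * k₁) := by rw [h12, h21]
        _ = k₁ * (k₂ * k₂) * k₁ := by group
        _ = 1 := by rw [h2, mul_one, h1]
    have i1 : k₁⁻¹ = k₁ := inv_eq_of_mul_eq_one_left h1
    have i2 : k₂⁻¹ = k₂ := inv_eq_of_mul_eq_one_left h2
    have i3 : k₃⁻¹ = k₃ := inv_eq_of_mul_eq_one_left e5
    rintro a (rfl | rfl | rfl | rfl) <;>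
      simp only [Set.mem_ofPred_eq, inv_one, i1, i2, i3, true_or, or_true]

theorem mem_klein {K : Type u} [Group K] {k₁ k₂ k₃ : K} {h1 : k₁ * k₁ = 1} {h2 : k₂ * k₂ = 1}
    {h12 : k₁ * k₂ = k₃} {h21 : k₂ * k₁ = k₃} {g : K} :
    g ∈ klein h1 h2 h12 h21 ↔ g = 1 ∨ g = k₁ ∨ g = k₂ ∨ g = k₃ := Iff.rfl

theorem klein_sq {K : Type u} [Group K] {k₁ k₂ k₃ : K} {h1 : k₁ * k₁ = 1} {h2 : k₂ * k₂ = 1}
    {h12 : k₁ * k₂ = k₃} {h21 : k₂ * k₁ = k₃} {g : K} (hg : g ∈ klein h1 h2 h12 h21) : g * g = 1 := by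
  rcases mem_klein.1 hg with rfl | rfl | rfl | rfl
  · exact mul_one 1
  · exact h1
  · exact h2
  · calc g * g = (k₁ * k₂) * (k₂ * k₁) := by rw [h12, h21]
      _ = k₁ * (k₂ * k₂) * k₁ := by group
      _ = 1 := by rw [h2, mul_one, h1]

theorem card_klein_le {K : Type u} [Group K] {k₁ k₂ k₃ : K} {h1 : k₁ * k₁ = 1} {h2 : k₂ * k₂ = 1}
    {h12 : k₁ * k₂ = k₃} {h21 : k₂ * k₁ = k₃} : Nat.card (klein h1 h2 h12 h21) ≤ 4 := by
  have e : ((klein h1 h2 h12 h21 : Subgroup K) : Set K) = {1, k₁, k₂, k₃} := by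
    ext g
    simp only [SetLike.mem_coe, mem_klein, Set.mem_insert_iff, Set.mem_singleton_iff]
  have h3 : Nat.card (klein h1 h2 h12 h21) = Set.ncard ((klein h1 h2 h12 h21 : Subgroup K) : Set K) := rfl
  rw [h3, e]
  refine (Set.ncard_insert_le _ _).trans ?_
  refine Nat.succ_le_succ ((Set.ncard_insert_le _ _).trans ?_)
  refine Nat.succ_le_succ ((Set.ncard_insert_le _ _).trans ?_)
  rw [Set.ncard_singleton]

theorem finite_klein {K : Type u} [Group K] {k₁ k₂ k₃ : K} {h1 : k₁ * k₁ = 1} {h2 : k₂ * k₂ = 1}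
    {h12 : k₁ * k₂ = k₃} {h21 : k₂ * k₁ = k₃} : Finite (klein h1 h2 h12 h21) := by
  have e : ((klein h1 h2 h12 h21 : Subgroup K) : Set K) = {1, k₁, k₂, k₃} := by
    ext g
    simp only [SetLike.mem_coe, mem_klein, Set.mem_insert_iff, Set.mem_singleton_iff]
  exact (e ▸ (Set.toFinite _) : ((klein h1 h2 h12 h21 : Subgroup K) : Set K).Finite)

/-- A subgroup generated by elements of `{1, k₁, k₂, k₃}`. -/
theorem card_le_four_of_gen {K : Type u} [Group K] {k₁ k₂ k₃ : K} (h1 : k₁ * k₁ = 1) (h2 : k₂ * k₂ = 1)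
    (h12 : k₁ * k₂ = k₃) (h21 : k₂ * k₁ = k₃) {S : Set K} (hS : ∀ g ∈ S, g = 1 ∨ g = k₁ ∨ g = k₂ ∨ g = k₃) :
    (∀ g ∈ closure S, g * g = 1) ∧ Nat.card (closure S) ≤ 4 := by
  have hle : closure S ≤ klein h1 h2 h12 h21 := (closure_le _).2 hS
  have := finite_klein (h1 := h1) (h2 := h2) (h12 := h12) (h21 := h21)
  exact ⟨fun g hg => klein_sq (hle hg), (Nat.card_le_card_of_injective (inclusion hle)
    (inclusion_injective hle)).trans card_klein_le⟩

/-- A cyclic group in which all squares are trivial. -/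
theorem card_le_two_of_cyclic {Z : Type u} [Group Z] [hc : IsCyclic Z] (h : ∀ z : Z, z * z = 1) : Nat.card Z ≤ 2 := by
  obtain ⟨g, hg⟩ := hc.exists_generator
  rw [← orderOf_eq_card_of_forall_mem_zpowers hg]
  exact orderOf_le_of_pow_eq_one (by norm_num) (by rw [pow_two, h])

end Cfsg.Agent.KFacts.OddLift.Frat
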