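import Cfsg.Agent.KFacts.OddLift.SuzCov
import Cfsg.Agent.TypeD4Two.FieldIso
import Cfsg.Agent.S1679
import Cfsg.Agent.S1680

/-!
# The 2-part of the multiplier of `G₂(4)` has order at most 2
-/

set_option autoImplicit false
set_option maxRecDepth 100000
set_option linter.constructorNameAsVariable false

namespace Cfsg.Agent.KFacts.OddLift.GTwoFour

open Cfsg Cfsg.Spor Cfsg.Agent.SporRec.SuzPerm Cfsg.Agent.KFacts.OddLift.Basic Cfsg.Agent.KFacts.OddLift.SuzLet
open Cfsg.Agent.KFacts.OddLift.SuzCov Cfsg.Agent.SporRec.G24Suz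
open Cfsg.Agent.SporadicRecognition.CosetCert Cfsg.Agent.SporadicRecognition.CosetCertHyp

universe u v

section Field

open Cfsg.Lie Cfsg.Agent.TypeD4Two.FieldIso

variable {F K : Type*} [Field F] [Field K] (σ : F ≃+* K) (D : ChevalleyDatum)

theorem group_map : (D.group F).map (Matrix.GeneralLinearGroup.map (n := D.Idx) σ.toRingHom) = D.group K := by
  unfold ChevalleyDatum.group
  rw [MonoidHom.map_closure]
  congr 1
  ext g
  constructor
  · rintro ⟨g, ⟨r, t, hg⟩, rfl⟩
    refine ⟨r, σ t, ?_⟩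
    rw [← xMat_map, ← hg]
    rfl
  · rintro ⟨r, t, hg⟩
    refine ⟨Matrix.GeneralLinearGroup.map (n := D.Idx) σ.symm.toRingHom g, ⟨r, σ.symm t, ?_⟩, ?_⟩
    · have h1 : ((Matrix.GeneralLinearGroup.map (n := D.Idx) σ.symm.toRingHom g : GL D.Idx F) : Matrix D.Idx D.Idx F) =
        (g : Matrix D.Idx D.Idx K).map σ.symm := rfl
      rw [h1, hg]
      exact xMat_map σ.symm D r t
    · apply Units.ext
      ext i j
      change σ (σ.symm ((g : Matrix D.Idx D.Idx K) i j)) = _
      rw [σ.apply_symm_apply]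

/-- Chevalley groups over isomorphic fields -/
noncomputable def groupCongr : D.group F ≃* D.group K :=
  ((D.group F).equivMapOfInjective _ (map_injective' σ D)).trans (MulEquiv.subgroupCongr (group_map σ D))

end Field

/-- the subgroup `⟨a, …, f⟩` of `Suz` -/
abbrev H : Subgroup Suz := Subgroup.closure (Set.range xs)

theorem x_mem {g : Suz.Gen} (hg : g ≠ .g) : x g ∈ H := by
  cases g
  · exact Subgroup.subset_closure ⟨0, rfl⟩
  · exact Subgroup.subset_closure ⟨1, rfl⟩
  · exact Subgroup.subset_closure ⟨2, rfl⟩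
  · exact Subgroup.subset_closure ⟨3, rfl⟩
  · exact Subgroup.subset_closure ⟨4, rfl⟩
  · exact Subgroup.subset_closure ⟨5, rfl⟩
  · exact absurd rfl hg

theorem b_mem {i : ℕ} (hi : i < 5) : b i ∈ H := by
  have h0 : ((List.range 5).all fun i => (bw i).all fun g => decide (g ≠ Suz.Gen.g)) = true := by decide +kernel
  have h1 := List.all_eq_true.1 (List.all_eq_true.1 h0 i (List.mem_range.2 hi))
  refine Subgroup.list_prod_mem _ fun y hy => ?_
  obtain ⟨g, hg, rfl⟩ := List.mem_map.1 hy
  exact x_mem (of_decide_eq_true (h1 g hg))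

/-- the letters in `H` -/
noncomputable def c (i : ℕ) : H := if hi : i < 5 then ⟨b i, b_mem hi⟩ else 1

theorem c_of {i : ℕ} (hi : i < 5) : (c i : Suz) = b i := by
  unfold c
  rw [dif_pos hi]

theorem coe_ev {r : List ℕ} (hr : ∀ y ∈ r, y < 10) : ((ev (lt c 6) r : H) : Suz) = ev (lt b 6) r := by
  have h1 : ((ev (lt c 6) r : H) : Suz) = H.subtype (ev (lt c 6) r) := rfl
  rw [h1, map_ev_lt, ← ev_lt_congr _ (by norm_num : 5 ≤ 6) hr, ← ev_lt_congr b (by norm_num : 5 ≤ 6) hr]
  congr 1
  funext y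
  unfold lt
  split
  · rename_i h
    have h2 : (fun i => H.subtype (c i)) (y / 2) = b (y / 2) := c_of (by omega)
    rw [h2]
  · rfl

theorem rels_of {rels : List (List ℕ)} (h1 : ∀ r ∈ rels, ev (lt b 6) r = 1)
    (h2 : (rels.all fun r => r.all fun y => Nat.blt y 10) = true) : ∀ r ∈ rels, ev (lt c 6) r = 1 := fun r hr =>
  Subtype.ext ((coe_ev (all_lt (List.all_eq_true.1 h2 r hr))).trans (h1 r hr))

theorem c_cube (i : ℕ) : c i ^ 3 = 1 := by
  by_cases hi : i < 5
  · apply Subtype.ext
    rw [Subgroup.coe_pow, c_of hi, b_cube, Subgroup.coe_one]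
  · unfold c
    rw [dif_neg hi, one_pow]

theorem c_odd (i : ℕ) : Odd (orderOf (c i)) :=
  Odd.of_dvd_nat (by decide : Odd 3) (orderOf_dvd_of_pow_eq_one (c_cube i))

theorem clo_five : clo c 5 = ⊤ := by
  have h1 : (clo c 5).map H.subtype = clo b 5 := by
    rw [clo, MonoidHom.map_closure, clo]
    congr 1
    ext y
    constructor
    · rintro ⟨_, ⟨i, hi, rfl⟩, rfl⟩
      exact ⟨i, hi, (c_of hi).symm⟩
    · rintro ⟨i, hi, rfl⟩
      exact ⟨c i, ⟨i, hi, rfl⟩, c_of hi⟩
  have h2 : H ≤ clo b 5 := by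
    rw [Subgroup.closure_le]
    rintro _ ⟨i, rfl⟩
    have : xs i = x (Cfsg.Agent.SporRec.G24Suz.gen i) := rfl
    rw [this]
    refine x_mem_five ?_
    clear this
    revert i
    decide
  rw [eq_top_iff]
  rintro ⟨y, hy⟩ -
  have h3 := h2 hy
  rw [← h1] at h3
  obtain ⟨z, hz, hzy⟩ := h3
  have : z = ⟨y, hy⟩ := Subtype.ext hzy
  rwa [← this]

theorem card_H : Nat.card H = 251596800 := by
  have h1 : H.index = 1782 := by
    have := S1680.result.1
    rwa [map_closure_eq] at this
  have h2 := H.card_mul_index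
  have h3 : Nat.card Suz = 448345497600 := S1694.result.2
  rw [h1, h3] at h2
  omega

theorem card_ker_le_two_H {L : Type u} [Group L] {π : L →* H} (h : Cov π) : Finite L ∧ Nat.card π.ker ≤ 2 := by
  obtain ⟨B, hB, hBo⟩ := h.exists_lifts c_odd
  have s5 := data_five h hB hBo (c_cube 0) (rels_of rels_two (by decide +kernel)) (rels_of rels_thr (by decide +kernel))
    (rels_of rels_fou (by decide +kernel)) (rels_of rels_fiv (by decide +kernel))
  exact h.card_ker_le hB clo_five (by rw [card_H]; norm_num) ⟨s5.1, s5.2.trans (by rw [card_H])⟩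

/-- every Chevalley group of type `G₂` over a field with four elements is isomorphic to `H` -/
theorem iso {F : Type*} [Field F] [Finite F] (hF : Nat.card F = 4) : Nonempty (Lie.chevG2.group F ≃* H) := by
  obtain ⟨K, _, _, hK, ⟨e⟩⟩ := S1679.result
  rw [map_closure_eq] at e
  have := Fintype.ofFinite F
  rw [Nat.card_eq_fintype_card] at hF
  exact ⟨(groupCongr (FiniteField.ringEquivOfCardEq (hF.trans hK.symm)) Lie.chevG2).trans e.symm⟩

/-- **A perfect central extension of `G₂(4)` by a 2-group has a kernel of order at most 2.** -/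
theorem card_ker_le_two {F : Type*} [Field F] [Finite F] (hF : Nat.card F = 4) {X : Type v} [Group X]
    (e : X ≃* Lie.chevG2.group F) {L : Type u} [Group L] {π : L →* X} (h : Cov π) :
    Finite L ∧ Nat.card π.ker ≤ 2 := by
  obtain ⟨e'⟩ := iso hF
  let e2 : X ≃* H := e.trans e'
  have hk : (e2.toMonoidHom.comp π).ker = π.ker := by
    ext x
    rw [MonoidHom.mem_ker, MonoidHom.mem_ker]
    exact map_eq_one_iff e2 e2.injective
  have h1 : Cov (e2.toMonoidHom.comp π) :=
    ⟨e2.surjective.comp h.surj, by rw [hk]; exact h.central, by rw [hk]; exact h.two, h.perfect⟩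
  have h2 := card_ker_le_two_H h1
  rwa [hk] at h2

/-- **Bound**: the 2-part of the multiplier of `G₂(4)` is at most 2. -/
theorem not_four_dvd {F : Type*} [Field F] [Finite F] (hF : Nat.card F = 4) {X : Type v} [Group X]
    (e : X ≃* Lie.chevG2.group F) {K : Type u} [Group K] [Finite K]
    (hK : commutator K = ⊤) {f : K →* X} (hf : Function.Surjective f) (hZ : f.ker ≤ Subgroup.center K) :
    ¬ 4 ∣ Nat.card f.ker :=
  not_dvd_of_cov (e := 3) (j := 2) (fun L _ _ π h => by
    have := (card_ker_le_two hF e h).2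
    omega) hK hf hZ (by norm_num)

end Cfsg.Agent.KFacts.OddLift.GTwoFour
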