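import Cfsg.Agent.KFacts.OddLift.USixL.Diff

/-!
# The 2-part of the multiplier of `PSU₆(2)`: elementary abelian of order at most 4

Let `f : K → PSU₆(2)` be surjective, `K` finite and perfect, `ker f` a central 2-group. The good lifts `t` of the
transvections (`USixL.exists_TL`) form a map on the isotropic vectors whose third difference `USixL.dd t` on
triples spanning totally isotropic planes is `SU₆(2)`-invariant with values in `ker f`; the values generate `ker f`
(`USixL.ker_eq`) and there are three of them, with product 1.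

* `card_le`: `ker f` has exponent 2 and order at most 4;
* `card_le_two`: if it is cyclic then its order is at most 2.
-/

set_option autoImplicit false

namespace Cfsg.Agent.KFacts.OddLift.USix

open Subgroup Cfsg Cfsg.Agent.SporadicStructure.UnitTwo Cfsg.Agent.KFacts.OddLift.USixL

universe u v

/-- **The 2-part of the multiplier of `PSU₆(2)`.** -/
theorem main {F : Type v} [Field F] [Fintype F] (hF : Fintype.card F = 2 ^ 2) {K : Type u} [Group K] [Finite K]
    (hK : commutator K = ⊤) {f : K →* PSU 6 F 2} (hf : Function.Surjective f) (hZ : f.ker ≤ center K)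
    (h2 : IsPGroup 2 f.ker) : (∀ z ∈ f.ker, z * z = 1) ∧ Nat.card f.ker ≤ 4 := by
  obtain ⟨t, h⟩ := exists_TL (hF := hF) hf hZ h2
  obtain ⟨ω, hω⟩ := exists_omega hF
  have hω0 := omega_ne_zero hω
  have p := tri_eee hF hω
  have q : ∀ c : F, c ≠ 0 → Tri (ee 0) (ee 1) (c • ee 2) := fun c hc => by
    have := p.smul hF one_ne_zero one_ne_zero hc
    rwa [one_smul, one_smul] at this
  have s1 := dd_sq h p
  have s2 := dd_sq h (q ω hω0)
  have s3 := dd_sq h (q _ (pow_ne_zero 2 hω0))
  have h3 : dd t (ee 0) (ee 1) (ee 2) * dd t (ee 0) (ee 1) (ω • ee 2) = dd t (ee 0) (ee 1) (ω ^ 2 • ee 2) :=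
    mul_right_cancel ((dd_three h p hω).trans s3.symm)
  have h4 := mem_center_iff.1 (hZ (dd_ker h p)) (dd t (ee 0) (ee 1) (ω • ee 2))
  have key := Frat.card_le_four_of_gen s1 s2 h3 (h4.trans h3)
    (S := {x | ∃ u v w, Tri u v w ∧ x = dd t u v w}) (by
      rintro _ ⟨u, v, w, p', rfl⟩
      exact Or.inr (dd_cases h hf hZ hω p'))
  rw [ker_eq hK hf hZ h2 h]
  exact key

/-- **The 2-part of the multiplier of `PSU₆(2)`**, for central quotients: exponent 2, order at most 4. -/
theorem card_le {K : Type u} [Group K] [Finite K] (hK : commutator K = ⊤) (Z : Subgroup K) [Z.Normal]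
    (hZ : Z ≤ center K) (h2 : IsPGroup 2 Z) {F : Type v} [Field F] [Fintype F] (hF : Fintype.card F = 4)
    (e : K ⧸ Z ≃* PSU 6 F 2) : (∀ z ∈ Z, z * z = 1) ∧ Nat.card Z ≤ 4 := by
  let f : K →* PSU 6 F 2 := e.toMonoidHom.comp (QuotientGroup.mk' Z)
  have hker : f.ker = Z := by
    ext x
    rw [MonoidHom.mem_ker]
    show e (QuotientGroup.mk' Z x) = 1 ↔ _
    rw [map_eq_one_iff e e.injective]
    exact QuotientGroup.eq_one_iff x
  have h := main (f := f) (by rw [hF]; norm_num) hK (e.surjective.comp (QuotientGroup.mk'_surjective _))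
    (by rw [hker]; exact hZ) (by rw [hker]; exact h2)
  rwa [hker] at h

/-- The cyclic case. -/
theorem card_le_two {K : Type u} [Group K] [Finite K] (hK : commutator K = ⊤) (Z : Subgroup K) [Z.Normal]
    (hZ : Z ≤ center K) (h2 : IsPGroup 2 Z) [IsCyclic Z] {F : Type v} [Field F] [Fintype F]
    (hF : Fintype.card F = 4) (e : K ⧸ Z ≃* PSU 6 F 2) : Nat.card Z ≤ 2 :=
  Frat.card_le_two_of_cyclic fun z => Subtype.ext ((card_le hK Z hZ h2 hF e).1 z z.2)

end Cfsg.Agent.KFacts.OddLift.USix
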