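import Cfsg.Agent.OddHalf.D9.MultOf
import Cfsg.Agent.KFacts.OddLift.USix

/-!
# The row `U₆(2)` of the multiplier table `D9.MultOf.TwoRows`
-/

set_option autoImplicit false

namespace Cfsg.Agent.KFacts.OddLift.RowUSix

open Subgroup Cfsg.Agent.OddHalf.D9.Cut Cfsg.Agent.OddHalf.D9.MultOf

universe u

theorem u62 : Bd.{u} 2 (fun X _ => XU62 X) := by
  rintro K _ hK ⟨F, iF, iF2, hF, ⟨e⟩⟩
  have := hK.1
  have := hK.2.2.2
  have h1 := USix.card_le_two hK.2.1.1.commutator_eq_top (center K) le_rfl hK.2.2.1 hF e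
  have h2 := Nat.card_pos (α := center K)
  rcases (show Nat.card (center K) = 1 ∨ Nat.card (center K) = 2 by omega) with h3 | h3 <;> rw [h3]
  exact one_dvd 2

end Cfsg.Agent.KFacts.OddLift.RowUSix
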