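import Cfsg.Agent.KFacts.OddLift.Frat
import Cfsg.Agent.SporRec.TwoSp6.Main
import Cfsg.Agent.StandardComponent.SpTwoAut

/-!
# The 2-part of the multiplier of `Sp₆(2)` has order at most 2
-/

set_option autoImplicit false
set_option linter.style.haveILetI false

namespace Cfsg.Agent.KFacts.OddLift.SpSix

open Subgroup Cfsg.Agent.KFacts.MulTwo Cfsg.Agent.KFacts.MulDef
open Cfsg.Agent.SporRec.TwoSp6.Cox Cfsg.Agent.SporRec.TwoSp6.Sp Cfsg.Agent.SporRec.TwoSp6.Lift

universe u v

/-- In a perfect double cover the lifts of the first two transvections do not commute. -/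
theorem not_comm {L : Type*} [Group L] [Finite L] {π : L →* S} {c : L} (h : Dbl π c) {x y : L}
    (hx : π x = tr (v 0)) (hy : π y = tr (v 1)) : x * y ≠ y * x := by
  have E : Ext c π := ⟨h.surj, h.ne, h.sq, h.cen, fun g hg => (h.ker g).1 hg, (h.ker c).2 (Or.inr rfl)⟩
  obtain ⟨a, ha, R⟩ := Cfsg.Agent.SporRec.TwoSp6.Main.Ext.exists_rels E (by
    intro P hP
    -- the complement is normal with abelian quotient
    refine h.false_of_compl (P := ⊤) (P₁ := P) (mem_top _) (by rw [index_top]; norm_num) ?_ ?_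
    · intro hc
      have h1 : c ∈ zpowers c ⊓ P := ⟨mem_zpowers c, hc⟩
      rw [hP.disjoint.eq_bot, mem_bot] at h1
      exact h.ne h1
    · intro w _
      obtain ⟨⟨z, p⟩, hzp⟩ := hP.2 w
      change (z : L) * (p : L) = w at hzp
      rcases (mem_zpowers h.sq).1 z.2 with h1 | h1
      · left
        rw [← hzp, h1, one_mul]
        exact p.2
      · right
        rw [← hzp, h1, ← mul_assoc, h.sq, one_mul]
        exact p.2)
  intro hxy
  have h01 := R.comm 0 1 (by decide)
  -- `x = a 0` or `c a 0`, `y = a 1` or `c a 1`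
  have e : ∀ p q : L, (c * p) * q = c * (p * q) := fun p q => mul_assoc _ _ _
  have e' : ∀ p q : L, p * (c * q) = c * (p * q) := fun p q => by rw [← mul_assoc, ← h.cen, mul_assoc]
  have key : a 0 * a 1 = a 1 * a 0 := by
    rcases Ext.eq_or E ((ha 0).trans hx.symm) with h1 | h1 <;>
      rcases Ext.eq_or E ((ha 1).trans hy.symm) with h2 | h2 <;> rw [h1, h2] at hxy
    · exact hxy
    · rw [e', e] at hxy
      exact mul_left_cancel hxy
    · rw [e, e'] at hxy
      exact mul_left_cancel hxy
    · rw [e (a 0), e' (a 0), e (a 1), e' (a 1)] at hxy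
      exact mul_left_cancel (mul_left_cancel hxy)
  rw [key] at h01
  exact h.ne (mul_eq_right.1 h01.symm)

/-- **The 2-part of the multiplier of `Sp₆(2)`.** -/
theorem card_ker_le {K : Type u} [Group K] [Finite K] (hK : commutator K = ⊤) {f : K →* S}
    (hf : Function.Surjective f) (hZ : f.ker ≤ center K) (h2 : IsPGroup 2 f.ker) : Nat.card f.ker ≤ 2 := by
  refine Frat.card_ker_le_two hK hf hZ h2 (tr_sq (v 0)) (tr_comm (u := v 0) (v := v 1) ?_) ?_
  · rw [om_v', if_neg (by decide)]
  · intro L _ _ π c hd x' y' hx' hy'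
    exact not_comm hd hx' hy'

/-- **The 2-part of the multiplier of `Sp₆(2)`**, for central quotients. -/
theorem card_le {K : Type u} [Group K] [Finite K] (hK : commutator K = ⊤) (Z : Subgroup K) [Z.Normal]
    (hZ : Z ≤ center K) (h2 : IsPGroup 2 Z) {F : Type v} [Field F] [Fintype F] (hF : Fintype.card F = 2)
    (e : K ⧸ Z ≃* Cfsg.PSp 3 F) : Nat.card Z ≤ 2 := by
  obtain ⟨e'⟩ := Cfsg.Agent.StandardComponent.SpTwoAut.exists_equiv hF
  let f : K →* S := ((e.trans e').toMonoidHom).comp (QuotientGroup.mk' Z)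
  have hker : f.ker = Z := by
    ext x
    rw [MonoidHom.mem_ker]
    show (e.trans e') (QuotientGroup.mk' Z x) = 1 ↔ _
    rw [map_eq_one_iff (e.trans e') (e.trans e').injective]
    exact QuotientGroup.eq_one_iff x
  have h := card_ker_le (f := f) hK ((e.trans e').surjective.comp (QuotientGroup.mk'_surjective _))
    (by rw [hker]; exact hZ) (by rw [hker]; exact h2)
  rwa [hker] at h

end Cfsg.Agent.KFacts.OddLift.SpSix
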