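import Cfsg.Agent.OddHalf.D9.MultOf
import Cfsg.Agent.KFacts.OddLift.SpSix
import Cfsg.Agent.KFacts.OddLift.OEight

/-!
# The rows `Sp₆(2)` and `Ω₈⁺(2)` of the multiplier table `D9.MultOf.TwoRows`
-/

set_option autoImplicit false

namespace Cfsg.Agent.KFacts.OddLift.RowsTwo

open Subgroup Cfsg.Agent.OddHalf.D9.Cut Cfsg.Agent.OddHalf.D9.MultOf

universe u

/-- a 2-group of order at most 2 -/
theorem dvd_two {K : Type u} [Group K] [Finite K] {Z : Subgroup K} (h : Nat.card Z ≤ 2) : Nat.card Z ∣ 2 := by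
  have h1 := Nat.card_pos (α := Z)
  rcases (show Nat.card Z = 1 ∨ Nat.card Z = 2 by omega) with h2 | h2 <;> rw [h2]
  exact one_dvd 2

theorem sp62 : Bd.{u} 2 (fun X _ => XSp62 X) := by
  rintro K _ hK ⟨F, iF, iF2, hF, ⟨e⟩⟩
  have := hK.1
  exact dvd_two (SpSix.card_le hK.2.1.1.commutator_eq_top (center K) le_rfl hK.2.2.1 hF e)

theorem o82 : Bd.{u} 2 (fun X _ => XO82 X) := by
  rintro K _ hK ⟨F, iF, iF2, hF, ⟨e⟩⟩
  have := hK.1
  have := hK.2.2.2
  exact dvd_two (OEight.card_le_two hK.2.1.1.commutator_eq_top (center K) le_rfl hK.2.2.1 hF e)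

end Cfsg.Agent.KFacts.OddLift.RowsTwo
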