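import Cfsg.Agent.KFacts.OddLift.SuzLet
import Cfsg.Agent.KFacts.OddLift.SuzTwoAll
import Cfsg.Agent.KFacts.OddLift.SuzThrAll
import Cfsg.Agent.KFacts.OddLift.SuzFouAll
import Cfsg.Agent.KFacts.OddLift.SuzFivAll
import Cfsg.Agent.KFacts.OddLift.SuzSixAll

/-!
# Relators between the letters of the Suzuki group
-/

set_option autoImplicit false
set_option maxRecDepth 100000
set_option linter.unusedSimpArgs false

namespace Cfsg.Agent.KFacts.OddLift.SuzRel

open Cfsg.Spor Cfsg.Agent.SporRec.SuzPerm Cfsg.Agent.KFacts.OddLift.Basic Cfsg.Agent.KFacts.OddLift.SuzLet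
open Cfsg.Agent.SporadicRecognition.CosetCert Cfsg.Agent.SporadicRecognition.CosetCertHyp

theorem chk_two : (SuzTwoData.rels.all fun r => chkT r) = true := by decide +kernel
theorem chk_thr : (SuzThrData.rels.all fun r => chkT r) = true := by decide +kernel
theorem chk_fou : (SuzFouData.rels.all fun r => chkT r) = true := by decide +kernel
theorem chk_fiv : (SuzFivData.rels.all fun r => chkT r) = true := by decide +kernel
theorem chk_six : (SuzSixData.rels.all fun r => chkT r) = true := by decide +kernel

/-- five commuting elements of class 3A with product 1 -/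
def ws : List (List ℕ) := [[2], [11], [4, 8, 0, 11, 1, 9, 5], [8, 3, 8, 11, 9, 2, 9], [0, 7, 0, 11, 7, 10, 1, 6, 1]]

/-- the commutators of two elements of a list of words -/
def comms (ws : List (List ℕ)) : List (List ℕ) :=
  ws.flatMap fun u => (ws.filter fun v => decide (List.Lex (· < ·) u v)).map fun v =>
    u ++ v ++ (invw iv u ++ invw iv v)

theorem chk_comms : ((comms ws).all fun r => chkT r) = true := by decide +kernel

theorem okProd_ws : okProd (comms ws) ws = true := by decide +kernel

theorem chk_cube : ((List.range 6).all fun i => chkT [2 * i, 2 * i, 2 * i]) = true := by decide +kernel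

end Cfsg.Agent.KFacts.OddLift.SuzRel
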