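import Cfsg.Agent.KFacts.OddLift.SuzTwoData

set_option autoImplicit false
set_option maxRecDepth 100000

namespace Cfsg.Agent.KFacts.OddLift.SuzTwoChk0

open Cfsg.Agent.SporadicRecognition.CosetCert Cfsg.Agent.KFacts.OddLift.SuzTwoData

theorem c0 : Part C 0 8 8 := runChunk_sound C 8 (by decide +kernel : runChunk C 7 127 0x20b1828608101a6080a3660810126080a30404102020c1020408105 1 1 0 0 8 = 9)

theorem all : Part C 0 8 8 := c0

end Cfsg.Agent.KFacts.OddLift.SuzTwoChk0
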