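import Cfsg.Agent.ChevalleyStructure.Tits.Main
import Cfsg.Agent.KFacts.MulDef
import Cfsg.Agent.KFacts.OddLift.Step
import Cfsg.Agent.KFacts.OddLift.TitMat

/-!
# Four letters of odd order of the Tits group: relators, generation
-/

set_option autoImplicit false
set_option linter.style.haveILetI false

namespace Cfsg.Agent.KFacts.OddLift.TitGen

open Subgroup Cfsg.Agent.KFacts.MulDef Cfsg.Agent.KFacts.OddLift.Basic Cfsg.Agent.KFacts.OddLift.TitMat
open Cfsg.Agent.SporadicRecognition.CosetCert Cfsg.Agent.SporadicRecognition.CosetCertHyp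
open Cfsg.Agent.ChevalleyStructure.Tits.Pack Cfsg.Agent.ChevalleyStructure.Tits.Data
  Cfsg.Agent.ChevalleyStructure.Tits.Mat Cfsg.Agent.ChevalleyStructure.Tits.Order
  Cfsg.Agent.ChevalleyStructure.Tits.Main

open scoped MatrixGroups

/-! ### the letters in the matrix group -/

/-- the letters as matrices -/
noncomputable def β (i : ℕ) : GL I52 (ZMod 2) := W (yw i)

theorem yw_lt' {i : ℕ} (hi : i < 4) : ∀ j ∈ yw i, j < 10 := by
  have h := yw_lt
  rw [List.all_eq_true] at h
  have h2 := h i (List.mem_range.2 hi)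
  rw [List.all_eq_true] at h2
  intro j hj
  have := h2 j hj
  rwa [Nat.blt_eq] at this

theorem coe_β {i : ℕ} (hi : i < 4) : ((β i : GL I52 (ZMod 2)) : Matrix I52 I52 (ZMod 2)) = toMat (P (2 * i)) := by
  have h := yw_ok
  rw [List.all_eq_true] at h
  have h2 := Nat.eq_of_beq_eq_true (h i (List.mem_range.2 hi))
  rw [← h2, toMat_evalW]
  exact coe_word _ fun j hj => (yw_lt' hi j hj).trans (by norm_num)

theorem coe_β_inv {i : ℕ} (hi : i < 4) :
    (((β i)⁻¹ : GL I52 (ZMod 2)) : Matrix I52 I52 (ZMod 2)) = toMat (P (2 * i + 1)) := by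
  have h := inv_ok
  rw [List.all_eq_true] at h
  have h2 := Nat.eq_of_beq_eq_true (h i (List.mem_range.2 hi))
  have h3 : (β i : Matrix I52 I52 (ZMod 2)) * toMat (P (2 * i + 1)) = 1 := by
    rw [coe_β hi, ← toMat_mulP, h2, toMat_oneP]
  calc (((β i)⁻¹ : GL I52 (ZMod 2)) : Matrix I52 I52 (ZMod 2))
      = ((β i)⁻¹ : GL I52 (ZMod 2)) * ((β i : Matrix I52 I52 (ZMod 2)) * toMat (P (2 * i + 1))) := by
        rw [h3, Matrix.mul_one]
    _ = toMat (P (2 * i + 1)) := by
        rw [← Matrix.mul_assoc, ← Units.val_mul, inv_mul_cancel, Units.val_one, Matrix.one_mul]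

theorem coe_lt {y : ℕ} (hy : y < 8) :
    ((lt β 4 y : GL I52 (ZMod 2)) : Matrix I52 I52 (ZMod 2)) = toMat (P y) := by
  rcases Nat.mod_two_eq_zero_or_one y with h | h
  · rw [lt_even β 4 (by omega) h, coe_β (by omega)]
    congr 2
    omega
  · rw [lt_odd β 4 (by omega) h, coe_β_inv (by omega)]
    congr 2
    omega

theorem coe_ev {r : List ℕ} (hr : ∀ y ∈ r, y < 8) :
    ((ev (lt β 4) r : GL I52 (ZMod 2)) : Matrix I52 I52 (ZMod 2)) = toMat (evP r) := by
  induction r with
  | nil =>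
    rw [ev_nil, Units.val_one]
    exact toMat_oneP.symm
  | cons y r ih =>
    have h : evP (y :: r) = mulP (P y) (evP r) := rfl
    rw [ev_cons, Units.val_mul, ih fun z hz => hr z (List.mem_cons_of_mem _ hz), coe_lt (hr y List.mem_cons_self), h,
      toMat_mulP]

theorem all_lt8 {r : List ℕ} (h : (r.all fun y => Nat.blt y 8) = true) : ∀ y ∈ r, y < 8 := by
  rw [List.all_eq_true] at h
  intro y hy
  have := h y hy
  rwa [Nat.blt_eq] at this

theorem rels_β : ∀ r ∈ TitMat.rels, ev (lt β 4) r = 1 := by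
  intro r hr
  have h1 := TitMat.rels_ok
  rw [List.all_eq_true] at h1
  have h2 := TitMat.rels_lt
  rw [List.all_eq_true] at h2
  apply Units.ext
  rw [coe_ev (all_lt8 (h2 r hr)), Nat.eq_of_beq_eq_true (h1 r hr), toMat_oneP, Units.val_one]

theorem β_mem (i : ℕ) : β i ∈ H0 := by
  by_cases hi : i < 4
  · exact word_mem _ (yw_lt' hi)
  · have : yw i = [] := by
      unfold yw
      exact List.getD_eq_default _ _ (by rw [show yws.length = 4 from rfl]; omega)
    unfold β
    rw [this, W_nil]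
    exact H0.one_mem

/-- orders of the letters -/
def od (i : ℕ) : ℕ := if i = 0 then 13 else 3

theorem od_odd (i : ℕ) : Odd (od i) := by
  unfold od
  split <;> decide

theorem rep_ok : (List.range 4).all (fun i => TitMat.rels.contains (List.replicate (od i) (2 * i))) = true := by
  decide +kernel

theorem ev_replicate {G : Type*} [Group G] (g : ℕ → G) (n y : ℕ) : ev g (List.replicate n y) = g y ^ n := by
  unfold ev
  rw [List.map_replicate, List.prod_replicate]

theorem β_pow (i : ℕ) : β i ^ od i = 1 := by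
  by_cases hi : i < 4
  · have h := rep_ok
    rw [List.all_eq_true] at h
    have h2 := rels_β _ (List.contains_iff_mem.1 (h i (List.mem_range.2 hi)))
    rw [ev_replicate, lt_even β 4 (by omega) (by omega)] at h2
    have h3 : 2 * i / 2 = i := by omega
    rwa [h3] at h2
  · have : yw i = [] := by
      unfold yw
      exact List.getD_eq_default _ _ (by rw [show yws.length = 4 from rfl]; omega)
    unfold β
    rw [this, W_nil, one_pow]

/-! ### the letters in the simple group -/

theorem mem_of_index_two {G : Type*} [Group G] {N : Subgroup G} (hN : N.index = 2) {x : G} {n : ℕ} (hn : Odd n)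
    (hx : x ^ n = 1) : x ∈ N := by
  obtain ⟨k, hk⟩ := hn
  have h1 : x * x ∈ N := mul_self_mem_of_index_two hN x
  have h2 : x ^ n * x = (x * x) ^ (k + 1) := by
    rw [← pow_two, ← pow_mul, ← pow_succ, hk]
    congr 1
  rw [hx, one_mul] at h2
  rw [h2]
  exact N.pow_mem h1 _

/-- the letters as elements of `H0` -/
noncomputable def bH (i : ℕ) : H0 := ⟨β i, β_mem i⟩

theorem bH_pow (i : ℕ) : bH i ^ od i = 1 := Subtype.ext (β_pow i)

/-- the letters as elements of the simple group -/
noncomputable def b (i : ℕ) : commutator H0 := ⟨bH i, mem_of_index_two H0_result.1 (od_odd i) (bH_pow i)⟩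

theorem coe_b (i : ℕ) : (commutator H0).subtype (b i) = bH i := by
  rw [subtype_apply]
  rfl

theorem b_odd (i : ℕ) : Odd (orderOf (b i)) :=
  Odd.of_dvd_nat (od_odd i) (orderOf_dvd_of_pow_eq_one (Subtype.ext (bH_pow i)))

theorem coe_ev_b (r : List ℕ) : ((ev (lt b 4) r : commutator H0) : H0) = ev (lt bH 4) r :=
  map_ev_lt b 4 (commutator H0).subtype r

theorem coe_ev_bH (r : List ℕ) : ((ev (lt bH 4) r : H0) : GL I52 (ZMod 2)) = ev (lt β 4) r :=
  map_ev_lt bH 4 H0.subtype r

theorem rels_b : ∀ r ∈ TitMat.rels, ev (lt b 4) r = 1 := by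
  intro r hr
  apply Subtype.ext
  rw [coe_ev_b]
  apply Subtype.ext
  rw [coe_ev_bH, rels_β r hr]
  rfl

/-! ### generation -/

theorem ev_mem {G : Type*} [Group G] (b : ℕ → G) (n : ℕ) (r : List ℕ) : ev (lt b n) r ∈ clo b n := by
  induction r with
  | nil => rw [ev_nil]; exact one_mem _
  | cons y r ih => rw [ev_cons]; exact mul_mem (lt_mem b n) ih

theorem ev_kws {i : ℕ} {w : List ℕ} (hw : (i, w) ∈ kws) (hi : i < 10) : ev (lt bH 4) w = yH i := by
  have h1 := kws_ok
  rw [List.all_eq_true] at h1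
  have h2 := kws_lt
  rw [List.all_eq_true] at h2
  apply Subtype.ext
  rw [coe_ev_bH, coe_yH hi]
  apply Units.ext
  rw [coe_ev (all_lt8 (h2 _ hw)), coe_yG (by omega), LM, Nat.eq_of_beq_eq_true (h1 _ hw)]

theorem ev_cw {i : ℕ} (hi : i < 4) : ev (lt bH 4) (cw i) = yH 7 * bH i * (yH 7)⁻¹ := by
  have h1 := cws_ok
  rw [List.all_eq_true] at h1
  have h2 := cws_lt
  rw [List.all_eq_true] at h2
  have h3 := Nat.eq_of_beq_eq_true (h1 i (List.mem_range.2 hi))
  rw [eq_mul_inv_iff_mul_eq]
  apply Subtype.ext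
  rw [coe_mul, coe_mul, coe_ev_bH, coe_yH (by norm_num)]
  apply Units.ext
  rw [Units.val_mul, Units.val_mul, coe_ev (all_lt8 (h2 i (List.mem_range.2 hi))), coe_yG (by norm_num), LM,
    ← toMat_mulP, h3, toMat_mulP]
  show _ = _ * ((β i : GL I52 (ZMod 2)) : Matrix I52 I52 (ZMod 2))
  rw [coe_β hi]

instance : Finite H0 := Nat.finite_of_card_ne_zero (by rw [card_H0]; norm_num)

theorem clo_normal : (clo bH 4).Normal := by
  have hk : ∀ i w, (i, w) ∈ kws → i < 10 → yH i ∈ clo bH 4 := fun i w hw hi => by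
    rw [← ev_kws hw hi]
    exact ev_mem _ _ _
  have m0 := hk 0 [5, 0, 5, 7, 0, 7, 0, 3, 7, 4] (by decide) (by norm_num)
  have m8 := hk 8 [0, 7, 3, 5, 1, 7, 3, 4, 7, 2, 5] (by decide) (by norm_num)
  have m9 := hk 9 [0, 0, 6, 1, 3, 4, 0, 6, 5, 2, 0, 4] (by decide) (by norm_num)
  have hle : clo bH 4 ≤ normalizer (clo bH 4 : Set H0) := le_normalizer
  have m7 : yH 7 ∈ normalizer (clo bH 4 : Set H0) := by
    apply mem_normalizer_fintype
    intro x hx
    have h : clo bH 4 ≤ (clo bH 4).comap (MulAut.conj (yH 7)).toMonoidHom := by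
      unfold clo
      rw [closure_le]
      rintro _ ⟨i, hi, rfl⟩
      rw [SetLike.mem_coe, mem_comap, MulEquiv.coe_toMonoidHom, MulAut.conj_apply, ← ev_cw hi]
      exact ev_mem _ _ _
    have h' := h hx
    rw [mem_comap, MulEquiv.coe_toMonoidHom, MulAut.conj_apply] at h'
    exact h'
  have h := Cfsg.Agent.ChevalleyStructure.Tits.Final.gen4 Sat_yH (normalizer (clo bH 4 : Set H0)) (hle m0) m7
    (hle m8) (hle m9)
  rw [gen_yH] at h
  exact normalizer_eq_top_iff.1 (top_le_iff.1 h)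

theorem map_clo : (clo b 4).map (commutator H0).subtype = clo bH 4 := by
  unfold clo
  rw [MonoidHom.map_closure]
  congr 1
  ext x
  constructor
  · rintro ⟨_, ⟨i, hi, rfl⟩, rfl⟩
    exact ⟨i, hi, (coe_b i).symm⟩
  · rintro ⟨i, hi, rfl⟩
    exact ⟨b i, ⟨i, hi, rfl⟩, coe_b i⟩

theorem clo_top : clo b 4 = ⊤ := by
  have hs : IsSimpleGroup (commutator H0) := H0_result.2.1
  have hn := clo_normal
  have hN : (clo b 4).Normal := ⟨fun x hx g => by
    have h1 : ((g * x * g⁻¹ : commutator H0) : H0) ∈ clo bH 4 := by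
      have h2 : (x : H0) ∈ clo bH 4 := by
        rw [← map_clo]
        exact mem_map_of_mem _ hx
      rw [Subgroup.coe_mul, Subgroup.coe_mul, Subgroup.coe_inv]
      exact hn.conj_mem _ h2 _
    rw [← map_clo] at h1
    obtain ⟨z, hz, hzx⟩ := h1
    have h3 : z = g * x * g⁻¹ := Subtype.ext hzx
    rwa [← h3]⟩
  rcases hN.eq_bot_or_eq_top with h | h
  · exfalso
    have h1 := map_clo
    rw [h, Subgroup.map_bot] at h1
    have h2 : yH 0 ∈ clo bH 4 := by
      rw [← ev_kws (i := 0) (w := [5, 0, 5, 7, 0, 7, 0, 3, 7, 4]) (by decide) (by norm_num)]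
      exact ev_mem _ _ _
    rw [← h1, mem_bot] at h2
    exact yH_ne_one (by norm_num) h2
  · exact h

end Cfsg.Agent.KFacts.OddLift.TitGen
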