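import Cfsg.Agent.KFacts.OddLift.TitTwoData

set_option autoImplicit false
set_option maxRecDepth 100000

namespace Cfsg.Agent.KFacts.OddLift.TitTwoChk0

open Cfsg.Agent.SporadicRecognition.CosetCert Cfsg.Agent.KFacts.OddLift.TitTwoData

theorem c0 : Part C 0 3 3 := runChunk_sound C 3 (by decide +kernel : runChunk C 6 63 0x810a30530c2082085 1 1 0 0 3 = 4)

theorem all : Part C 0 3 3 := c0

end Cfsg.Agent.KFacts.OddLift.TitTwoChk0
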