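import Cfsg.Agent.SporadicRecognition.CosetCert

set_option autoImplicit false
set_option maxRecDepth 100000

namespace Cfsg.Agent.KFacts.OddLift.TitTwoData

open Cfsg.Agent.SporadicRecognition.CosetCert

noncomputable def tree : Tr := (.L 0x1fe939c76cbf9996a991ff8688889f)

noncomputable def wtree : WT := (.N 1 (.L 1 [3,1,1,1,2]) (.N 2 (.L 2 [3,3]) (.L 0 [3,0,0,0,2])))

noncomputable def stree : ST := (.L 0 [] [])

noncomputable def C : Cert where
  data := tree
  lm := 15
  rb := 39
  fb := 7
  mask := 127
  B := 8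
  k := 4
  N := 3
  inv := fun x => bif Nat.beq x 0 then 1 else bif Nat.beq x 1 then 0 else bif Nat.beq x 2 then 3 else bif Nat.beq x 3 then 2 else x
  words := wtree
  subs := stree

def rels : List (List Nat) := [[2,2,2], [0,0,0,2,1,3], [0,0,0,0,0,0,0,0,0,0,0,0,0]]

def subw : List (List Nat) := [[0]]

end Cfsg.Agent.KFacts.OddLift.TitTwoData
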