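import Cfsg.Agent.KFacts.OddLift.TitGen
import Cfsg.Agent.KFacts.OddLift.TitTwoAll
import Cfsg.Agent.KFacts.OddLift.TitThrAll
import Cfsg.Agent.KFacts.OddLift.TitFouAll

/-!
# The Tits group has no double cover

Chain `13 < 13:3 < L₃(3) < ²F₄(2)'` with indices 3, 144, 3200, relators of type `okr` in four letters of odd order.
-/

set_option autoImplicit false
set_option linter.style.haveILetI false

namespace Cfsg.Agent.KFacts.OddLift.Tits

open Subgroup Cfsg.Agent.KFacts.MulDef Cfsg.Agent.KFacts.OddLift.Basic Cfsg.Agent.KFacts.OddLift.TitMat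
  Cfsg.Agent.KFacts.OddLift.TitGen
open Cfsg.Agent.SporadicRecognition.CosetCert Cfsg.Agent.SporadicRecognition.CosetCertHyp
open Cfsg.Agent.ChevalleyStructure.Tits.Pack Cfsg.Agent.ChevalleyStructure.Tits.Data
  Cfsg.Agent.ChevalleyStructure.Tits.Mat Cfsg.Agent.ChevalleyStructure.Tits.Order
  Cfsg.Agent.ChevalleyStructure.Tits.Main

open scoped MatrixGroups

/-! ### the multiplier -/

theorem rels_okr : TitMat.rels.all (fun r => okr [] r) = true := by decide +kernel

theorem ok_two : stepOK TitTwoData.C TitTwoData.rels TitTwoData.subw 2 1 = true := by decide +kernel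

theorem ok_thr : stepOK TitThrData.C TitThrData.rels TitThrData.subw 3 2 = true := by decide +kernel

theorem ok_fou : stepOK TitFouData.C TitFouData.rels TitFouData.subw 4 3 = true := by decide +kernel

/-- **A perfect central extension of the Tits group by a 2-group is trivial.** -/
theorem card_ker_le {L : Type*} [Group L] {π : L →* commutator H0} (h : Cov π) : Nat.card π.ker ≤ 1 := by
  obtain ⟨B, hB, hBo⟩ := h.exists_lifts b_odd
  have hrel : ∀ r ∈ TitMat.rels, ev (lt B 4) r = 1 :=
    h.rels_eq_one hB hBo (odd := []) (fun u hu => absurd hu List.not_mem_nil) rels_okr rels_b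
  have h0 : B 0 ^ 13 = 1 := by
    have h2 := hrel (List.replicate 13 0) (by
      have h := rep_ok
      rw [List.all_eq_true] at h
      exact List.contains_iff_mem.1 (h 0 (List.mem_range.2 (by norm_num))))
    rwa [ev_replicate, lt_even B 4 (by norm_num) (by norm_num)] at h2
  have s1 := base (by norm_num) h0
  have s2 := step TitTwoData.C TitTwoData.rels TitTwoData.subw (by norm_num : 2 ≤ 4) ok_two
    (fun r hr => hrel r (List.mem_append_left _ hr)) TitTwoAll.part s1
  have s3 := step TitThrData.C TitThrData.rels TitThrData.subw (by norm_num : 3 ≤ 4) ok_thr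
    (fun r hr => hrel r (List.mem_append_right _ (List.mem_append_left _ hr))) TitThrAll.part s2
  have s4 := step TitFouData.C TitFouData.rels TitFouData.subw (le_refl 4) ok_fou
    (fun r hr => hrel r (List.mem_append_right _ (List.mem_append_right _ hr))) TitFouAll.part s3
  have hX : Nat.card (commutator H0) = 2 ^ 11 * 3 ^ 3 * 5 ^ 2 * 13 := H0_result.2.2.2
  refine (h.card_ker_le hB clo_top (by rw [hX]; norm_num) (k := 1) ?_).2
  rw [hX]
  refine ⟨s4.1, s4.2.trans ?_⟩
  norm_num

theorem Dbl.cov {L X : Type*} [Group L] [Group X] {π : L →* X} {c : L} (h : Dbl π c) : Cov π where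
  surj := h.surj
  central := by
    intro x hx
    rw [mem_center_iff]
    intro g
    rcases (h.ker x).1 hx with rfl | rfl
    · rw [mul_one, one_mul]
    · exact (h.cen g).symm
  two := by
    rintro ⟨x, hx⟩
    refine ⟨1, Subtype.ext ?_⟩
    show x ^ 2 ^ 1 = 1
    rw [pow_one, pow_two]
    rcases (h.ker x).1 hx with rfl | rfl
    · rw [mul_one]
    · exact h.sq
  perfect := h.perf

theorem noDouble_H0 : NoDouble (commutator H0) := by
  intro L _ _ π c hd
  have h1 := card_ker_le (Dbl.cov hd)
  have h2 : (⟨c, (hd.ker c).2 (Or.inr rfl)⟩ : π.ker) = 1 := by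
    have h3 : Nat.card π.ker = 1 := le_antisymm h1 Nat.card_pos
    have := (Nat.card_eq_one_iff_unique.1 h3).1
    exact Subsingleton.elim _ _
  exact hd.ne (congrArg Subtype.val h2)

theorem noDouble_aux (K : Subgroup (GL I52 (ZMod 2))) (hK : K = H0) : NoDouble (commutator K) := by
  subst hK
  exact noDouble_H0

/-- **The Tits group has no perfect double cover.** -/
theorem noDouble_tits : NoDouble Cfsg.Lie.TitsGroup := noDouble_aux _ T0_eq_H0

end Cfsg.Agent.KFacts.OddLift.Tits
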